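import Groth.Agent.Zeta24.Bridge
import Groth.Agent.FF.RiemannRoch
import Groth.Agent.CurveRR24.TwoAffineH1
import Groth.Agent.CurveRR24.RR
import Groth.Agent.VarietyLib.PointComplement
import Groth.Agent.AmpleLib.Power

/-!
# `h¹(O)` of a smooth proper curve is the genus of its function field
-/

set_option autoImplicit false
set_option linter.style.haveILetI false

universe u

open CategoryTheory AlgebraicGeometry FunFld

namespace Groth.Agent.Zeta24

variable {k : Type u} [Field k] {X : Scheme.{u}} [X.Over (Spec (CommRingCat.of k))] [IsIntegral X]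
  [IsProper (X ↘ Spec (CommRingCat.of k))] [Smooth (X ↘ Spec (CommRingCat.of k))]
  (hdim : topologicalKrullDim X = 1) [Algebra k X.functionField]
  (hc : algebraMap k X.functionField = Curv2.stalkMap k X (genericPoint X))
  (hK : IsFunctionField k X.functionField)

include hdim

variable (k) in
include k in
theorem exists_two_closed : ∃ x y : X, IsClosed ({x} : Set X) ∧ IsClosed ({y} : Set X) ∧ x ≠ y := by
  haveI : JacobsonSpace X := LocallyOfFiniteType.jacobsonSpace (X ↘ Spec (CommRingCat.of k))
  obtain ⟨x, hx⟩ := exists_closed k hdim (X := X)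
  have hne : ({x}ᶜ : Set X).Nonempty := by
    refine ⟨genericPoint X, fun h => CurvesLib24.not_isClosed_genericPoint hdim ?_⟩
    rw [Set.mem_singleton_iff] at h
    rw [h]; exact hx
  obtain ⟨y, hy, hyc⟩ := nonempty_inter_closedPoints hne hx.isOpen_compl.isLocallyClosed
  exact ⟨x, y, hx, mem_closedPoints_iff.1 hyc, fun e => hy (e ▸ rfl)⟩

include hc hK

theorem mem_range_germ_iff {O : X.Opens} (hη : genericPoint X ∈ O) (z : X.functionField) :
    z ∈ Set.range (X.presheaf.germ O _ hη) ↔
      ∀ x : {x : X // IsClosed ({x} : Set X)}, x.1 ∈ O → (placeOf hdim hc hK x).1 z ≤ 1 := by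
  constructor
  · rintro ⟨s, rfl⟩ x hx
    rw [mem_placeOf_iff]
    exact ⟨X.presheaf.germ O x.1 hx s, ConcreteCategory.congr_hom
      (TopCat.Presheaf.germ_stalkSpecializes X.presheaf hx (genericPoint_specializes x.1)) s⟩
  · exact fun h => mem_range_germ_of_stalks k hdim hη z fun x hx hcl =>
      (mem_placeOf_iff hdim hc hK ⟨x, hcl⟩ z).1 (h ⟨x, hcl⟩ hx)

omit hdim hc hK [IsProper (X ↘ Spec (CommRingCat.of k))] [Smooth (X ↘ Spec (CommRingCat.of k))]
  [Algebra k X.functionField] in
theorem germ_gl {O : X.Opens} (hη : genericPoint X ∈ O) (c : k) :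
    X.presheaf.germ O _ hη (EmbLib24.gl (X ↘ Spec (CommRingCat.of k)) O c) =
      Curv2.stalkMap k X (genericPoint X) c := by
  show X.presheaf.germ O _ hη (X.presheaf.map (homOfLE (le_top : O ≤ ⊤)).op _) = _
  rw [TopCat.Presheaf.germ_res_apply]
  rfl

/-- **`dim_k H¹(X, O) = g`.** -/
theorem finrank_h1 : Module.finrank k (Coh.HH X (Coh.structureModule X) 1) = genus k X.functionField := by
  classical
  obtain ⟨x, y, hx, hy, hxy⟩ := exists_two_closed k hdim (X := X)
  let U : X.Opens := ⟨({x} : Set X)ᶜ, hx.isOpen_compl⟩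
  let V : X.Opens := ⟨({y} : Set X)ᶜ, hy.isOpen_compl⟩
  have hU : IsAffineOpen U := VarietyLib.isAffineOpen_compl_point k hdim hx
  have hV : IsAffineOpen V := VarietyLib.isAffineOpen_compl_point k hdim hy
  have hUV : U ⊔ V = ⊤ := TopologicalSpace.Opens.ext (Set.eq_univ_of_forall fun z =>
    if hz : z = x then Or.inr (fun e => hxy (hz.symm.trans e)) else Or.inl hz)
  haveI hq : Coh.IsQCoh (Coh.structureModule X) := CurveRR24.isQCoh_structure k
  obtain ⟨δ, hsurj, hlin, hker⟩ := CurveRR24.exists_cocycle_map (k := k) hU hV hUV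
  have hηU : genericPoint X ∈ U := fun e => CurvesLib24.not_isClosed_genericPoint hdim
    (by rw [Set.mem_singleton_iff] at e; rw [e]; exact hx)
  have hηV : genericPoint X ∈ V := fun e => CurvesLib24.not_isClosed_genericPoint hdim
    (by rw [Set.mem_singleton_iff] at e; rw [e]; exact hy)
  have hη : genericPoint X ∈ U ⊓ V := ⟨hηU, hηV⟩
  set P := placeOf hdim hc hK ⟨x, hx⟩ with hP
  set Q := placeOf hdim hc hK ⟨y, hy⟩ with hQ
  have hPQ : P ≠ Q := fun e => hxy (congrArg Subtype.val ((placeOf_bijective hdim hc hK).1 e))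
  let A : ℕ → Divisor k X.functionField := fun n => Finsupp.single P (n : ℤ)
  let B : ℕ → Divisor k X.functionField := fun n => Finsupp.single Q (n : ℤ)
  -- global section spaces
  have hmemA : ∀ (n : ℕ) (z : X.functionField), z ∈ L (A n) → ∀ R, R ≠ P → R.1 z ≤ 1 := fun n z hz R hR => by
    simpa [A, Finsupp.single_apply, Ne.symm hR] using hz R
  have hmemB : ∀ (n : ℕ) (z : X.functionField), z ∈ L (B n) → ∀ R, R ≠ Q → R.1 z ≤ 1 := fun n z hz R hR => by
    simpa [B, Finsupp.single_apply, Ne.symm hR] using hz R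
  have hgerm : ∀ (n : ℕ) (z : L (A n + B n)), (z : X.functionField) ∈ Set.range (X.presheaf.germ (U ⊓ V) _ hη) := by
    intro n z
    rw [mem_range_germ_iff hdim hc hK hη]
    intro w hw
    have h := z.2 (placeOf hdim hc hK w)
    have h1 : placeOf hdim hc hK w ≠ P := fun e =>
      hw.1 (congrArg Subtype.val ((placeOf_bijective hdim hc hK).1 e))
    have h2 : placeOf hdim hc hK w ≠ Q := fun e =>
      hw.2 (congrArg Subtype.val ((placeOf_bijective hdim hc hK).1 e))
    simpa [A, B, Finsupp.single_apply, Ne.symm h1, Ne.symm h2] using h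
  choose sec hsec using hgerm
  have hinj : Function.Injective (X.presheaf.germ (U ⊓ V) (genericPoint X) hη) :=
    germ_injective_of_isIntegral X _ hη
  let Φ : ∀ n, L (A n + B n) →ₗ[k] Coh.HH X (Coh.structureModule X) 1 := fun n =>
    { toFun := fun z => δ (sec n z)
      map_add' := fun a b => by
        rw [← map_add]
        exact congrArg δ (hinj (by rw [map_add, hsec, hsec, hsec]; rfl))
      map_smul' := fun c a => by
        rw [RingHom.id_apply, ← hlin]
        exact congrArg δ (hinj (by rw [map_mul, hsec, hsec, germ_gl, ← hc]; exact Algebra.smul_def c _)) }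
  have hexp : ∀ (m : ℕ) (v : X.functionField) (R : Place k X.functionField), ∃ n : ℕ, m ≤ n ∧
      R.1 v ≤ WithZero.exp (n : ℤ) := fun m v R => by
    rcases eq_or_ne v 0 with rfl | hv
    · exact ⟨m, le_rfl, by simp⟩
    · refine ⟨m + (-R.ord v).toNat, by omega, (FF.val_le_exp_iff R hv).2 ?_⟩
      push_cast
      omega
  have hkerΦ : ∀ n, (LinearMap.ker (Φ n)).map (L (A n + B n)).subtype = L (A n) ⊔ L (B n) := by
    intro n
    ext z
    constructor
    · rintro ⟨z, hz, rfl⟩
      obtain ⟨a, b, hab⟩ := (hker _).1 hz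
      set a' := X.presheaf.germ U _ hηU a
      set b' := X.presheaf.germ V _ hηV b
      have hzab : (z : X.functionField) = a' - b' := by
        rw [← hsec n z, hab, map_sub, TopCat.Presheaf.germ_res_apply, TopCat.Presheaf.germ_res_apply]
      have ha : ∀ R, R ≠ P → R.1 a' ≤ 1 := fun R hR => by
        obtain ⟨w, rfl⟩ := (placeOf_bijective hdim hc hK).2 R
        exact (mem_range_germ_iff hdim hc hK hηU a').1 ⟨a, rfl⟩ w fun e => hR (by rw [hP]; exact congrArg _ (Subtype.ext e))
      have hb : ∀ R, R ≠ Q → R.1 b' ≤ 1 := fun R hR => by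
        obtain ⟨w, rfl⟩ := (placeOf_bijective hdim hc hK).2 R
        exact (mem_range_germ_iff hdim hc hK hηV b').1 ⟨b, rfl⟩ w fun e => hR (by rw [hQ]; exact congrArg _ (Subtype.ext e))
      have h1n : (1 : WithZero (Multiplicative ℤ)) ≤ WithZero.exp (n : ℤ) := by
        rw [← WithZero.exp_zero, WithZero.exp_le_exp]; omega
      have haP : P.1 a' ≤ WithZero.exp (n : ℤ) := by
        rw [show a' = (z : X.functionField) + b' by rw [hzab]; ring]
        refine (P.1.map_add _ _).trans (max_le ?_ ((hb P hPQ).trans h1n))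
        simpa [A, B, Finsupp.single_apply, Ne.symm hPQ, hPQ] using z.2 P
      have hbQ : Q.1 b' ≤ WithZero.exp (n : ℤ) := by
        rw [show b' = a' - (z : X.functionField) by rw [hzab]; ring]
        refine (Q.1.map_sub _ _).trans (max_le ((ha Q hPQ.symm).trans h1n) ?_)
        simpa [A, B, Finsupp.single_apply, Ne.symm hPQ, hPQ] using z.2 Q
      refine Submodule.mem_sup.2 ⟨a', fun R => ?_, -b', fun R => ?_, by rw [← sub_eq_add_neg]; exact hzab.symm⟩
      · rcases eq_or_ne R P with rfl | hR
        · simpa [A] using haP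
        · simpa [A, Finsupp.single_apply, Ne.symm hR] using ha R hR
      · rw [Valuation.map_neg]
        rcases eq_or_ne R Q with rfl | hR
        · simpa [B] using hbQ
        · simpa [B, Finsupp.single_apply, Ne.symm hR] using hb R hR
    · intro hz
      obtain ⟨a', ha, b', hb, rfl⟩ := Submodule.mem_sup.1 hz
      have hmem : a' + b' ∈ L (A n + B n) := by
        refine add_mem ?_ ?_
        · refine fun R => (ha R).trans (WithZero.exp_le_exp.2 ?_)
          simp [A, B, Finsupp.single_apply]; split_ifs <;> omega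
        · refine fun R => (hb R).trans (WithZero.exp_le_exp.2 ?_)
          simp [A, B, Finsupp.single_apply]; split_ifs <;> omega
      obtain ⟨a, hae⟩ := (mem_range_germ_iff hdim hc hK hηU a').2 fun w hw => hmemA n a' ha _
        fun e => hw (congrArg Subtype.val ((placeOf_bijective hdim hc hK).1 e))
      obtain ⟨b, hbe⟩ := (mem_range_germ_iff hdim hc hK hηV (-b')).2 fun w hw => by
        rw [Valuation.map_neg]
        exact hmemB n b' hb _ fun e => hw (congrArg Subtype.val ((placeOf_bijective hdim hc hK).1 e))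
      refine ⟨⟨a' + b', hmem⟩, (hker _).2 ⟨a, b, hinj ?_⟩, rfl⟩
      rw [hsec, map_sub, TopCat.Presheaf.germ_res_apply, TopCat.Presheaf.germ_res_apply, hae, hbe, sub_neg_eq_add]
  -- dimensions
  set g := genus k X.functionField
  have hdP : 1 ≤ P.deg := FF.deg_pos hK P
  have hdQ : 1 ≤ Q.deg := FF.deg_pos hK Q
  have hrank : ∀ n, 2 * g ≤ n → Module.finrank k (LinearMap.range (Φ n)) = g := by
    intro n hn
    haveI := FF.finiteDimensional_L hK (A n)
    haveI := FF.finiteDimensional_L hK (B n)
    haveI := FF.finiteDimensional_L hK (A n + B n)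
    have hnP : (n : ℤ) ≤ n * P.deg := le_mul_of_one_le_right (by positivity) (by exact_mod_cast hdP)
    have hnQ : (n : ℤ) ≤ n * Q.deg := le_mul_of_one_le_right (by positivity) (by exact_mod_cast hdQ)
    have e1 := FF.ell_eq_of_deg_large hK (D := A n) (by simp only [A, FF.deg_single]; omega)
    have e2 := FF.ell_eq_of_deg_large hK (D := B n) (by simp only [B, FF.deg_single]; omega)
    have e3 := FF.ell_eq_of_deg_large hK (D := A n + B n)
      (by simp only [A, B, FF.deg_add, FF.deg_single]; omega)
    have hinf : L (A n) ⊓ L (B n) = L (0 : Divisor k X.functionField) := by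
      ext z
      refine ⟨fun h R => ?_, fun h => ⟨fun R => (h R).trans ?_, fun R => (h R).trans ?_⟩⟩
      · rcases eq_or_ne R P with rfl | hR
        · simpa using hmemB n z h.2 P hPQ
        · simpa using hmemA n z h.1 R hR
      all_goals
        simp only [A, B, Finsupp.coe_zero, Pi.zero_apply, Finsupp.single_apply, WithZero.exp_le_exp]
        split_ifs <;> omega
    have hinf1 : Module.finrank k (L (A n) ⊓ L (B n) : Submodule k X.functionField) = 1 := by
      rw [hinf, FF.L_zero_eq hK]
      exact finrank_span_singleton one_ne_zero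
    have hsup := Submodule.finrank_sup_add_finrank_inf_eq (L (A n)) (L (B n))
    rw [← hkerΦ n, LinearEquiv.finrank_eq (Submodule.equivMapOfInjective _ (L (A n + B n)).injective_subtype _).symm,
      hinf1] at hsup
    have hrn := LinearMap.finrank_range_add_finrank_ker (Φ n)
    simp only [ell] at e1 e2 e3
    simp only [A, B, FF.deg_add, FF.deg_single] at e1 e2 e3 hrn hsup ⊢
    omega
  haveI : Module.Finite k (Coh.HH X (Coh.structureModule X) 1) :=
    CurveRR24.finite_HH_of_isCoh k (CurveRR24.isCoh_of_isInvertible k Groth.Agent.AmpleLib.isInvertible_structureModule) 1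
  have hmono : ∀ m n, m ≤ n → LinearMap.range (Φ m) ≤ LinearMap.range (Φ n) := by
    rintro m n hmn _ ⟨z, rfl⟩
    refine ⟨⟨z.1, fun R => (z.2 R).trans (WithZero.exp_le_exp.2 ?_)⟩, congrArg δ (hinj (by rw [hsec, hsec]))⟩
    simp [A, B, Finsupp.single_apply]; split_ifs <;> omega
  have htop : LinearMap.range (Φ (2 * g)) = ⊤ := by
    rw [eq_top_iff]
    intro v _
    obtain ⟨w, rfl⟩ := hsurj v
    set z := X.presheaf.germ (U ⊓ V) _ hη w
    obtain ⟨n₁, hn₁, hP1⟩ := hexp (2 * g) z P
    obtain ⟨n₂, hn₂, hQ2⟩ := hexp n₁ z Q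
    have hzmem : z ∈ L (A n₂ + B n₂) := fun R => by
      rcases eq_or_ne R P with rfl | hRP
      · refine (hP1.trans (WithZero.exp_le_exp.2 ?_))
        simp [A, B, Finsupp.single_apply, Ne.symm hPQ, hPQ]; omega
      rcases eq_or_ne R Q with rfl | hRQ
      · simpa [A, B, Finsupp.single_apply, hPQ] using hQ2
      obtain ⟨u, rfl⟩ := (placeOf_bijective hdim hc hK).2 R
      have := (mem_range_germ_iff hdim hc hK hη z).1 ⟨w, rfl⟩ u
        ⟨fun e => hRP (by rw [hP]; exact congrArg _ (Subtype.ext e)),
          fun e => hRQ (by rw [hQ]; exact congrArg _ (Subtype.ext e))⟩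
      simpa [A, B, Finsupp.single_apply, Ne.symm hRP, Ne.symm hRQ] using this
    have h2 : δ w ∈ LinearMap.range (Φ n₂) :=
      ⟨⟨z, hzmem⟩, congrArg δ (hinj (hsec _ _))⟩
    have heq := Submodule.eq_of_le_of_finrank_eq (hmono (2 * g) n₂ (by omega))
      ((hrank _ le_rfl).trans (hrank _ (by omega)).symm)
    rw [heq]; exact h2
  rw [← finrank_top k (Coh.HH X (Coh.structureModule X) 1), ← htop]
  exact hrank _ le_rfl

end Groth.Agent.Zeta24
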