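import Groth.Agent.Zeta24.PicDiv

/-!
# Sections of an invertible module from the Riemann–Roch space of its divisor
-/

set_option autoImplicit false
set_option linter.style.haveILetI false
set_option backward.isDefEq.respectTransparency.types false

universe u

open CategoryTheory CategoryTheory.Limits AlgebraicGeometry Opposite TopologicalSpace FunFld
open Groth.Agent.Coherent Groth.Agent.PicLib Groth.Agent.AmpleLib Groth.Agent.EulerLib Groth.Agent.CurveRR24

namespace Groth.Agent.Zeta24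

variable {k : Type u} [Field k] {X : Scheme.{u}} [IsIntegral X] [X.Over (Spec (CommRingCat.of k))]
  [IsProper (X ↘ Spec (CommRingCat.of k))] [Smooth (X ↘ Spec (CommRingCat.of k))]
  {hdim : topologicalKrullDim X = 1} [Algebra k X.functionField]
  {hc : algebraMap k X.functionField = Curv2.stalkMap k X (genericPoint X)}
  {hK : IsFunctionField k X.functionField}

include hdim hc hK

/-- `ℓ(D) ≤ h⁰(L)` for a divisor `D` of `L`. -/
theorem ell_le_h0 {L : X.Modules} (hL : PicF.IsInvertible L) {D : Divisor k X.functionField}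
    (h : HasDiv hdim hc hK L D) : ell D ≤ Module.finrank k (Coh.HH X L 0) := by
  classical
  obtain ⟨W, hW, σ, hσ, hD⟩ := h.eval
  let Ψ : GA (baseHom k X) L →ₗ[k] X.functionField :=
    { toFun := fun s => gη hW (hσ.coef le_rfl (resM L (le_top : W ≤ ⊤) (show Γ(L, ⊤) from s)))
      map_add' := fun a b => by rw [← map_add (gη hW), ← hσ.coef_add]; congr 2; exact map_add _ _ _
      map_smul' := fun c a => by
        rw [RingHom.id_apply, Algebra.smul_def, hc]
        show gη hW (hσ.coef le_rfl (resM L le_top (baseHom k X c • (show Γ(L, ⊤) from a)))) = _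
        rw [resM_smul, hσ.coef_smul, map_mul, gη_res]
        rfl }
  haveI := finite_HH_of_isCoh k (isCoh_of_isInvertible k hL) 0
  haveI : Module.Finite k (GA (baseHom k X) L) := Module.Finite.equiv (hhZero k L)
  rw [(hhZero k L).finrank_eq]
  refine (Submodule.finrank_mono (t := LinearMap.range Ψ) fun f hf => ?_).trans (LinearMap.finrank_range_le Ψ)
  rcases eq_or_ne f 0 with rfl | hf0
  · exact zero_mem _
  obtain ⟨Wf, hWf, a, ha⟩ := X.presheaf.exists_germ_eq f
  choose V hV e he using fun x : {x : X // IsClosed ({x} : Set X)} => exists_isGen hL x.1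
  have key : ∀ x : {x : X // IsClosed ({x} : Set X)}, ∃ b : Γ(X, V x), gη (mem_generic (hV x)) b =
      f * gη (show genericPoint X ∈ W ⊓ V x from ⟨hW, mem_generic (hV x)⟩)
        ((he x).coef inf_le_right (resM L inf_le_left σ)) := fun x => by
    refine mem_range_germ_of_stalks k hdim (mem_generic (hV x)) _ fun z hz hzc => ?_
    refine (mem_placeOf_iff hdim hc hK ⟨z, hzc⟩ _).1 ?_
    have hu0 := coef_ne_zero hσ (he x) (inf_le_left : W ⊓ V x ≤ W) inf_le_right
      (show genericPoint X ∈ W ⊓ V x from ⟨hW, mem_generic (hV x)⟩)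
    rw [FF.val_le_one_iff _ (mul_ne_zero hf0 hu0), FF.ord_mul _ hf0 hu0]
    have h1 := hD ⟨z, hzc⟩ (V x) hz (e x) (he x) (W ⊓ V x) inf_le_left inf_le_right ⟨hW, mem_generic (hV x)⟩
    simp only [ordX] at h1
    rw [h1]
    have h2 := hf (placeOf hdim hc hK ⟨z, hzc⟩)
    rw [FF.val_le_exp_iff _ hf0] at h2
    omega
  choose b hb using key
  obtain ⟨x₀, hx₀⟩ := exists_closed k hdim (X := X)
  have hcov : (⊤ : X.Opens) ≤ iSup V := fun y _ => Opens.mem_iSup.2 (by
    rcases CurvesLib24.eq_genericPoint_or_isClosed hdim.le y with rfl | hy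
    · exact ⟨⟨x₀, hx₀⟩, mem_generic (hV _)⟩
    · exact ⟨⟨y, hy⟩, hV _⟩)
  let t : ∀ x, Γ(L, V x) := fun x => b x • e x
  have hres : ∀ x (T : X.Opens) (h1 : T ≤ W) (h2 : T ≤ V x) (h3 : T ≤ Wf) (_ : genericPoint X ∈ T),
      resM L h2 (t x) = res h3 a • resM L h1 σ := fun x T h1 h2 h3 hT => by
    rw [resM_smul, ← (he x).coef_spec h2 (resM L h1 σ), ← mul_smul]
    refine congrArg (· • _) (gη_injective hT ?_)
    show gη hT (res h2 (b x)) = gη hT (res h3 a * _)
    rw [map_mul, gη_res, gη_res, hb x, show gη (h3 hT) a = f from ha]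
    congr 1
    rw [← gη_res (le_inf h1 h2) hT, ← (he x).coef_res, resM_resM]
  obtain ⟨g, hg⟩ := (TopCat.Sheaf.existsUnique_gluing' (⟨L.presheaf, L.isSheaf⟩ : TopCat.Sheaf Ab X) V ⊤
    (fun x => homOfLE le_top) hcov t (fun i j => by
      show resM L (inf_le_left : V i ⊓ V j ≤ V i) (t i) = resM L (inf_le_right : V i ⊓ V j ≤ V j) (t j)
      have hη : genericPoint X ∈ V i ⊓ V j := ⟨mem_generic (hV i), mem_generic (hV j)⟩
      rw [← (he j).coef_spec inf_le_right (resM L (inf_le_left : V i ⊓ V j ≤ V i) (t i))]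
      rw [show resM L (inf_le_right : V i ⊓ V j ≤ V j) (t j) =
        res (inf_le_right : V i ⊓ V j ≤ V j) (b j) • resM L inf_le_right (e j) from resM_smul L _ _ _]
      refine congrArg (fun r : Γ(X, V i ⊓ V j) => r • resM L (inf_le_right : V i ⊓ V j ≤ V j) (e j)) (gη_injective hη ?_)
      have hηT : genericPoint X ∈ V i ⊓ V j ⊓ (W ⊓ Wf) := ⟨hη, hW, hWf⟩
      show gη hη _ = gη hη (res (inf_le_right : V i ⊓ V j ≤ V j) (b j))
      rw [← gη_res (inf_le_left : V i ⊓ V j ⊓ (W ⊓ Wf) ≤ V i ⊓ V j) hηT,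
        ← gη_res (inf_le_left : V i ⊓ V j ⊓ (W ⊓ Wf) ≤ V i ⊓ V j) hηT]
      refine congrArg (gη hηT) ?_
      rw [← (he j).coef_res, PicLib.res_res]
      refine (he j).coef_eq _ ?_
      rw [resM_resM, hres i _ (inf_le_right.trans inf_le_left) _ (inf_le_right.trans inf_le_right) hηT,
        ← hres j _ (inf_le_right.trans inf_le_left) (inf_le_left.trans inf_le_right)
          (inf_le_right.trans inf_le_right) hηT, resM_smul])).exists
  refine ⟨(show GA (baseHom k X) L from g), ?_⟩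
  show gη hW (hσ.coef le_rfl (resM L le_top (g : Γ(L, ⊤)))) = f
  have hT : genericPoint X ∈ W ⊓ (V ⟨x₀, hx₀⟩ ⊓ Wf) := ⟨hW, mem_generic (hV _), hWf⟩
  rw [← gη_res (inf_le_left : W ⊓ (V ⟨x₀, hx₀⟩ ⊓ Wf) ≤ W) hT, ← hσ.coef_res]
  rw [resM_resM, ← resM_resM L (le_top : V ⟨x₀, hx₀⟩ ≤ ⊤) (inf_le_right.trans inf_le_left),
    show resM L (le_top : V ⟨x₀, hx₀⟩ ≤ ⊤) (g : Γ(L, ⊤)) = t ⟨x₀, hx₀⟩ from hg _,
    hres _ _ inf_le_left _ (inf_le_right.trans inf_le_right) hT, hσ.coef_smul, hσ.coef_self, mul_one, gη_res]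
  exact ha

end Groth.Agent.Zeta24
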