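import Groth.Agent.Zeta24.Bridge
import Groth.Agent.FF.WeilRH
import Groth.Agent.ZetaLib.NPts

/-!
# Point counts of a curve are the place counts of its function field
-/

set_option autoImplicit false
set_option linter.style.haveILetI false

universe u

open CategoryTheory AlgebraicGeometry

namespace Groth.Agent.Zeta24

variable {k : Type u} [Field k] [Finite k] {X : Scheme.{u}} [X.Over (Spec (CommRingCat.of k))] [IsIntegral X]
  [IsProper (X ↘ Spec (CommRingCat.of k))] [Smooth (X ↘ Spec (CommRingCat.of k))]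
  (hdim : topologicalKrullDim X = 1) [Algebra k X.functionField]
  (hc : algebraMap k X.functionField = Curv2.stalkMap k X (genericPoint X))
  (hK : FunFld.IsFunctionField k X.functionField)

include hdim hc hK

omit [Finite k] in
theorem degCount_eq (e : ℕ) :
    Zeta.degCount (X ↘ Spec (CommRingCat.of k)) e = Nat.card {P : FunFld.Place k X.functionField // P.deg = e} := by
  refine (Nat.card_congr (Equiv.subtypeSubtypeEquivSubtypeInter _ _).symm).trans ?_
  exact Nat.card_congr ((Equiv.ofBijective _ (placeOf_bijective hdim hc hK)).subtypeEquiv fun x => by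
    rw [Equiv.ofBijective_apply, deg_placeOf hdim hc hK x])

theorem nPts_eq_NN {r : ℕ} (hr : r ≠ 0) :
    Zeta.nPts (X ↘ Spec (CommRingCat.of k)) r = FF.NN k X.functionField r := by
  classical
  rw [FF.NN_eq_sum hK hr le_rfl, Zeta.nPts,
    ← Finset.sum_fiberwise_of_maps_to (g := fun P : FunFld.Place k X.functionField => P.deg) (t := r.divisors)
      (fun P hP => Nat.mem_divisors.2 ⟨(Finset.mem_filter.1 hP).2, hr⟩)]
  refine Finset.sum_congr rfl fun e he => ?_
  rw [Finset.sum_congr rfl fun P hP => (Finset.mem_filter.1 hP).2, Finset.sum_const, smul_eq_mul, mul_comm,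
    degCount_eq hdim hc hK, ← Nat.card_eq_finsetCard]
  refine congrArg (· * e) (Nat.card_congr (Equiv.subtypeEquivRight fun P => ?_))
  simp only [Finset.mem_filter, Set.Finite.mem_toFinset, Set.mem_ofPred_eq]
  refine ⟨fun h => ⟨⟨?_, h ▸ Nat.dvd_of_mem_divisors he⟩, h⟩, fun h => h.2⟩
  exact h ▸ Nat.divisor_le he

/-- The point counts from the inverse roots of the function field. -/
theorem exists_alpha : ∃ α : Fin (2 * FunFld.genus k X.functionField) → ℂ,
    (∀ i, IsIntegral ℤ (α i)) ∧ (∀ i, ‖α i‖ ^ 2 = Nat.card k) ∧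
      (∀ i, α (Fin.rev i) * α i = Nat.card k) ∧
      ∀ r, r ≠ 0 → (Zeta.nPts (X ↘ Spec (CommRingCat.of k)) r : ℂ) = (Nat.card k : ℂ) ^ r + 1 - ∑ i, α i ^ r := by
  obtain ⟨α, hint, hα, hpair⟩ := FF.exists_alpha hK
  refine ⟨α, hint, fun i => FF.norm_sq_alpha hK hα i, fun i => by rw [mul_comm]; exact hpair i, fun r hr => ?_⟩
  rw [nPts_eq_NN hdim hc hK hr]
  exact FF.NN_formula hK hα hr

/-- The Hasse–Weil bound with the function field genus. -/
theorem abs_nPts_sub_le {r : ℕ} (hr : r ≠ 0) :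
    |(Zeta.nPts (X ↘ Spec (CommRingCat.of k)) r : ℝ) - ((Nat.card k : ℝ) ^ r + 1)| ≤
      2 * FunFld.genus k X.functionField * (Nat.card k : ℝ) ^ ((r : ℝ) / 2) := by
  obtain ⟨α, -, hnorm, -, hN⟩ := exists_alpha hdim hc hK
  have h : (((Zeta.nPts (X ↘ Spec (CommRingCat.of k)) r : ℝ) - ((Nat.card k : ℝ) ^ r + 1) : ℝ) : ℂ) =
      -∑ i, α i ^ r := by
    push_cast; rw [hN r hr]; ring
  rw [← Real.norm_eq_abs, ← Complex.norm_real, h, norm_neg]
  refine (norm_sum_le _ _).trans ((Finset.sum_le_card_nsmul _ _ ((Nat.card k : ℝ) ^ ((r : ℝ) / 2)) fun i _ => ?_).trans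
    (le_of_eq (by simp)))
  rw [norm_pow]
  have hn : ‖α i‖ = (Nat.card k : ℝ) ^ ((1 : ℝ) / 2) := by
    rw [← Real.sqrt_eq_rpow, ← hnorm i, Real.sqrt_sq (norm_nonneg _)]
  rw [hn, ← Real.rpow_mul_natCast (Nat.cast_nonneg _)]
  exact le_of_eq (congrArg _ (by ring))

end Groth.Agent.Zeta24
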