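import Groth.Agent.Zeta24.PicFinite
import Groth.Agent.FF.ZetaFin
import Groth.Agent.CurveLib.Basic
import Groth.Agent.AmpleLib.Power
import Groth.Agent.CurveRR24.PointInv
import Groth.Agent.CurveRR24.DegGroup

/-!
# Invertible classes of a smooth proper curve are the divisor classes of its function field
-/

set_option autoImplicit false
set_option linter.style.haveILetI false
set_option backward.isDefEq.respectTransparency.types false

universe u

open CategoryTheory CategoryTheory.Limits AlgebraicGeometry Opposite TopologicalSpace FunFld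
open Groth.Agent.Coherent Groth.Agent.PicLib Groth.Agent.AmpleLib Groth.Agent.EulerLib Groth.Agent.CurveRR24

namespace Groth.Agent.Zeta24

variable {X : Scheme.{u}} [IsIntegral X]

/-- A function as an element of the function field. -/
noncomputable abbrev gη {W : X.Opens} (hW : genericPoint X ∈ W) : Γ(X, W) →+* X.functionField :=
  (X.presheaf.germ W (genericPoint X) hW).hom

theorem gη_res {W V : X.Opens} (h : V ≤ W) (hV : genericPoint X ∈ V) (a : Γ(X, W)) :
    gη hV (res h a) = gη (h hV) a :=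
  TopCat.Presheaf.germ_res_apply X.presheaf (homOfLE h) _ hV a

theorem gη_injective {W : X.Opens} (hW : genericPoint X ∈ W) : Function.Injective (gη hW) :=
  germ_injective_of_isIntegral X _ hW

theorem gη_eq_stalk {W : X.Opens} {x : X} (hx : x ∈ W) (hW : genericPoint X ∈ W) (a : Γ(X, W)) :
    gη hW a = algebraMap (X.presheaf.stalk x) X.functionField (X.presheaf.germ W x hx a) :=
  (ConcreteCategory.congr_hom (TopCat.Presheaf.germ_stalkSpecializes X.presheaf hx
    (genericPoint_specializes x)) a).symm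

theorem mem_generic {W : X.Opens} {x : X} (hx : x ∈ W) : genericPoint X ∈ W :=
  (genericPoint_specializes x).mem_open W.isOpen hx

theorem exists_unit_gη {a : X.functionField} (ha : a ≠ 0) :
    ∃ (W : X.Opens) (hW : genericPoint X ∈ W) (u : Γ(X, W)ˣ), gη hW (u : Γ(X, W)) = a := by
  obtain ⟨W, hW, s, hs⟩ := X.presheaf.germ_exist a
  have hb : genericPoint X ∈ X.basicOpen s := (X.mem_basicOpen s _ hW).2 (by rw [hs]; exact isUnit_iff_ne_zero.2 ha)
  obtain ⟨u, hu⟩ := (RingedSpace.isUnit_res_basicOpen X.toRingedSpace s : IsUnit (res (X.basicOpen_le s) s))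
  exact ⟨_, hb, u, (congrArg _ hu).trans ((gη_res _ _ _).trans hs)⟩

variable {k : Type u} [Field k] [X.Over (Spec (CommRingCat.of k))]
  [IsProper (X ↘ Spec (CommRingCat.of k))] [Smooth (X ↘ Spec (CommRingCat.of k))]
  (hdim : topologicalKrullDim X = 1) [Algebra k X.functionField]
  (hc : algebraMap k X.functionField = Curv2.stalkMap k X (genericPoint X))
  (hK : IsFunctionField k X.functionField)

/-- The order at a closed point. -/
noncomputable abbrev ordX (x : {x : X // IsClosed ({x} : Set X)}) (a : X.functionField) : ℤ :=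
  (placeOf hdim hc hK x).ord a

include hdim hc hK

theorem ordX_nonneg {W : X.Opens} (x : {x : X // IsClosed ({x} : Set X)}) (hx : x.1 ∈ W) (a : Γ(X, W))
    (ha : gη (mem_generic hx) a ≠ 0) : 0 ≤ ordX hdim hc hK x (gη (mem_generic hx) a) :=
  (FF.val_le_one_iff _ ha).1 ((mem_placeOf_iff hdim hc hK x _).2 ⟨_, (gη_eq_stalk hx _ a).symm⟩)

theorem ordX_unit {W : X.Opens} (x : {x : X // IsClosed ({x} : Set X)}) (hx : x.1 ∈ W) {a : Γ(X, W)}
    (ha : IsUnit a) : ordX hdim hc hK x (gη (mem_generic hx) a) = 0 := by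
  obtain ⟨u, rfl⟩ := ha
  have h0 := ordX_nonneg hdim hc hK x hx (u : Γ(X, W)) ((u.isUnit.map (gη (mem_generic hx))).ne_zero)
  have h1 := ordX_nonneg hdim hc hK x hx (↑u⁻¹ : Γ(X, W)) ((u⁻¹.isUnit.map (gη (mem_generic hx))).ne_zero)
  rw [map_units_inv (gη (mem_generic hx)) u] at h1
  simp only [ordX, FF.ord_inv] at h0 h1 ⊢
  omega

/-- `D` is the divisor of a rational section of `L`. -/
def HasDiv (L : X.Modules) (D : Divisor k X.functionField) : Prop :=
  ∃ (W : X.Opens) (hW : genericPoint X ∈ W) (σ : Γ(L, W)), IsGen L W σ ∧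
    ∀ x : {x : X // IsClosed ({x} : Set X)}, ∃ (V : X.Opens) (hV : x.1 ∈ V) (e : Γ(L, V)) (he : IsGen L V e),
      ordX hdim hc hK x (gη (show genericPoint X ∈ W ⊓ V from ⟨hW, mem_generic hV⟩)
        (he.coef inf_le_right (resM L inf_le_left σ))) = D (placeOf hdim hc hK x)

omit hdim hc hK [IsProper (X ↘ Spec (CommRingCat.of k))] [Smooth (X ↘ Spec (CommRingCat.of k))] [Algebra k X.functionField] in
theorem coef_ne_zero {L : X.Modules} {W V : X.Opens} {σ : Γ(L, W)} {e : Γ(L, V)} (hσ : IsGen L W σ) (he : IsGen L V e)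
    {O : X.Opens} (h1 : O ≤ W) (h2 : O ≤ V) (hO : genericPoint X ∈ O) :
    gη hO (he.coef h2 (resM L h1 σ)) ≠ 0 := by
  have h := (he.restrict h2).isUnit_coef (hσ.restrict h1)
  have heq : (he.restrict h2).coef le_rfl (resM L h1 σ) = he.coef h2 (resM L h1 σ) :=
    (he.restrict h2).coef_eq le_rfl (by rw [resM_self]; exact he.coef_spec h2 _)
  rw [heq] at h
  exact (h.map (gη hO)).ne_zero

variable {hdim hc hK}

/-- The defining property in every chart. -/
theorem HasDiv.eval {L : X.Modules} {D : Divisor k X.functionField} (h : HasDiv hdim hc hK L D) :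
    ∃ (W : X.Opens) (hW : genericPoint X ∈ W) (σ : Γ(L, W)), IsGen L W σ ∧
      ∀ (x : {x : X // IsClosed ({x} : Set X)}) (V : X.Opens) (_ : x.1 ∈ V) (e : Γ(L, V)) (he : IsGen L V e)
        (O : X.Opens) (h1 : O ≤ W) (h2 : O ≤ V) (hO : genericPoint X ∈ O),
        ordX hdim hc hK x (gη hO (he.coef h2 (resM L h1 σ))) = D (placeOf hdim hc hK x) := by
  obtain ⟨W, hW, σ, hσ, hD⟩ := h
  refine ⟨W, hW, σ, hσ, fun x V hV e he O h1 h2 hO => ?_⟩
  obtain ⟨V₀, hV₀, e₀, he₀, h0⟩ := hD x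
  set T := W ⊓ (V ⊓ V₀) with hT
  have hηT : genericPoint X ∈ T := ⟨hW, mem_generic (⟨hV, hV₀⟩ : x.1 ∈ V ⊓ V₀)⟩
  have a1 : T ≤ W := inf_le_left
  have a2 : T ≤ V := inf_le_right.trans inf_le_left
  have a3 : T ≤ V₀ := inf_le_right.trans inf_le_right
  set c := (he.coef inf_le_left (resM L (inf_le_right : V ⊓ V₀ ≤ V₀) e₀))
  have hcu : IsUnit c := by
    have := (he.restrict (inf_le_left : V ⊓ V₀ ≤ V)).isUnit_coef (he₀.restrict (inf_le_right : V ⊓ V₀ ≤ V₀))
    convert this using 1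
    exact ((he.restrict inf_le_left).coef_eq le_rfl (by rw [resM_self]; exact he.coef_spec inf_le_left _)).symm
  have hmul : he.coef a2 (resM L a1 σ) = he₀.coef a3 (resM L a1 σ) * res (inf_le_right : T ≤ V ⊓ V₀) c := by
    refine he.coef_eq a2 ?_
    rw [mul_smul]
    have h' := congrArg (resM L (inf_le_right : T ≤ V ⊓ V₀)) (he.coef_spec (inf_le_left : V ⊓ V₀ ≤ V)
      (resM L (inf_le_right : V ⊓ V₀ ≤ V₀) e₀))
    rw [resM_smul, resM_resM, resM_resM] at h'
    exact (congrArg (fun z => he₀.coef a3 (resM L a1 σ) • z) h').trans (he₀.coef_spec a3 _)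
  have e1 : gη hO (he.coef h2 (resM L h1 σ)) = gη hηT (he.coef a2 (resM L a1 σ)) := by
    have hη' : genericPoint X ∈ O ⊓ T := ⟨hO, hηT⟩
    rw [← gη_res (inf_le_left : O ⊓ T ≤ O) hη', ← gη_res (inf_le_right : O ⊓ T ≤ T) hη', ← he.coef_res, ← he.coef_res,
      resM_resM, resM_resM]
  have e2 : gη hηT (he₀.coef a3 (resM L a1 σ)) =
      gη (show genericPoint X ∈ W ⊓ V₀ from ⟨hW, mem_generic hV₀⟩) (he₀.coef inf_le_right (resM L inf_le_left σ)) := by
    rw [← gη_res (le_inf a1 a3) hηT (he₀.coef inf_le_right (resM L inf_le_left σ)), ← he₀.coef_res, resM_resM]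
  rw [e1, hmul, map_mul, gη_res, ordX, FF.ord_mul _ (coef_ne_zero hσ he₀ a1 a3 hηT)
    (hcu.map (gη (mem_generic (⟨hV, hV₀⟩ : x.1 ∈ V ⊓ V₀)))).ne_zero, e2]
  have := ordX_unit hdim hc hK x (⟨hV, hV₀⟩ : x.1 ∈ V ⊓ V₀) hcu
  simp only [ordX] at this h0
  rw [this, add_zero, h0]

theorem HasDiv.congr {L M : X.Modules} (φ : L ≅ M) {D : Divisor k X.functionField} (h : HasDiv hdim hc hK L D) :
    HasDiv hdim hc hK M D := by
  obtain ⟨W, hW, σ, hσ, hD⟩ := h
  have hgen : ∀ {U : X.Opens} {s : Γ(L, U)}, IsGen L U s → IsGen M U (φ.hom.app U s) := fun {U s} hs V hV => by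
    convert (ConcreteCategory.bijective_of_isIso (φ.hom.app V)).comp (hs V hV) using 1
    funext r
    show r • resM M hV (φ.hom.app U s) = φ.hom.app V (r • resM L hV s)
    rw [Scheme.Modules.Hom.app_smul, app_resM]
  refine ⟨W, hW, φ.hom.app W σ, hgen hσ, fun x => ?_⟩
  obtain ⟨V, hV, e, he, h0⟩ := hD x
  refine ⟨V, hV, φ.hom.app V e, hgen he, ?_⟩
  rw [(hgen he).coef_eq inf_le_right (r := he.coef inf_le_right (resM L inf_le_left σ))]
  · exact h0
  · rw [← app_resM, ← app_resM, ← Scheme.Modules.Hom.app_smul, he.coef_spec]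

theorem HasDiv.unique {L : X.Modules} {D D' : Divisor k X.functionField} (h : HasDiv hdim hc hK L D)
    (h' : HasDiv hdim hc hK L D') : ∃ a : X.functionField, a ≠ 0 ∧ D' = D + div k a := by
  obtain ⟨W, hW, σ, hσ, hD⟩ := h.eval
  obtain ⟨W', hW', σ', hσ', hD'⟩ := h'.eval
  have hη : genericPoint X ∈ W' ⊓ W := ⟨hW', hW⟩
  set a := gη hη (hσ.coef inf_le_right (resM L inf_le_left σ')) with ha
  have ha0 : a ≠ 0 := coef_ne_zero hσ' hσ _ _ hη
  refine ⟨a, ha0, Finsupp.ext fun P => ?_⟩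
  obtain ⟨x, rfl⟩ := (placeOf_bijective hdim hc hK).2 P
  obtain ⟨V, hV, e, he⟩ := exists_isGen (L := L) (isInvertible_of_gens fun y => by
    rcases CurvesLib24.eq_genericPoint_or_isClosed hdim.le y with rfl | hy
    · exact ⟨W, hW, σ, hσ⟩
    · obtain ⟨W₀, hW₀, σ₀, -, hD₀⟩ := h
      obtain ⟨V, hV, e, he, -⟩ := hD₀ ⟨y, hy⟩
      exact ⟨V, hV, e, he⟩) x.1
  set T := (W' ⊓ W) ⊓ V
  have hT : genericPoint X ∈ T := ⟨hη, mem_generic hV⟩
  have b1 : T ≤ W' := inf_le_left.trans inf_le_left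
  have b2 : T ≤ W := inf_le_left.trans inf_le_right
  have hmul : he.coef inf_le_right (resM L b1 σ') =
      hσ.coef b2 (resM L b1 σ') * he.coef (inf_le_right : T ≤ V) (resM L b2 σ) := by
    refine he.coef_eq _ ?_
    rw [mul_smul, he.coef_spec, hσ.coef_spec]
  have h1 := hD' x V hV e he T b1 inf_le_right hT
  rw [hmul, map_mul, ordX, FF.ord_mul _ (coef_ne_zero hσ' hσ b1 b2 hT) (coef_ne_zero hσ he b2 inf_le_right hT)] at h1
  rw [Finsupp.add_apply, FF.div_apply hK, ← h1]
  have h2 := hD x V hV e he T b2 inf_le_right hT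
  have h3 : gη hT (hσ.coef b2 (resM L b1 σ')) = a := by
    rw [ha, ← gη_res (inf_le_left : T ≤ W' ⊓ W) hT, ← hσ.coef_res, resM_resM]
  simp only [ordX] at h2
  rw [h2, h3, add_comm]

theorem HasDiv.add_div {L : X.Modules} {D : Divisor k X.functionField} (h : HasDiv hdim hc hK L D)
    {a : X.functionField} (ha : a ≠ 0) : HasDiv hdim hc hK L (D + div k a) := by
  obtain ⟨W, hW, σ, hσ, hD⟩ := h
  obtain ⟨Wa, hWa, w, hw⟩ := exists_unit_gη ha
  let σ' : Γ(L, W ⊓ Wa) := res (inf_le_right : W ⊓ Wa ≤ Wa) (w : Γ(X, Wa)) • resM L inf_le_left σ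
  have hσ' : IsGen L (W ⊓ Wa) σ' :=
    (hσ.restrict inf_le_left).smul_unit (Units.map (res (inf_le_right : W ⊓ Wa ≤ Wa)).toMonoidHom w)
  refine ⟨W ⊓ Wa, ⟨hW, hWa⟩, σ', hσ', fun x => ?_⟩
  obtain ⟨V, hV, e, he, h0⟩ := hD x
  refine ⟨V, hV, e, he, ?_⟩
  have hle : (W ⊓ Wa) ⊓ V ≤ W ⊓ V := inf_le_inf_right V inf_le_left
  rw [show resM L inf_le_left σ' = res (inf_le_left.trans inf_le_right : (W ⊓ Wa) ⊓ V ≤ Wa) (w : Γ(X, Wa)) •
      resM L (inf_le_left.trans inf_le_left) σ by
    simp only [σ']; rw [resM_smul, resM_resM]; exact congrArg (· • _) (res_res _ _ _),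
    he.coef_smul, map_mul, gη_res, ordX, FF.ord_mul _ (by rw [hw]; exact ha)
      (coef_ne_zero hσ he _ _ _), hw, Finsupp.add_apply, FF.div_apply hK, ← h0, ← gη_res hle]
  rw [← he.coef_res, resM_resM, add_comm]

theorem HasDiv.tensor {L M : X.Modules} {D E : Divisor k X.functionField} (h : HasDiv hdim hc hK L D)
    (h' : HasDiv hdim hc hK M E) : HasDiv hdim hc hK (CohB1.tensorMod L M) (D + E) := by
  obtain ⟨W, hW, σ, hσ, hD⟩ := h
  obtain ⟨W', hW', τ, hτ, hE⟩ := h'
  refine ⟨W ⊓ W', ⟨hW, hW'⟩, tmul (resM L inf_le_left σ) (resM M inf_le_right τ),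
    isGen_tmul (hσ.restrict _) (hτ.restrict _), fun x => ?_⟩
  obtain ⟨V, hV, e, he, h0⟩ := hD x
  obtain ⟨V', hV', e', he', h0'⟩ := hE x
  refine ⟨V ⊓ V', ⟨hV, hV'⟩, tmul (resM L inf_le_left e) (resM M inf_le_right e'),
    isGen_tmul (he.restrict _) (he'.restrict _), ?_⟩
  set T := (W ⊓ W') ⊓ (V ⊓ V')
  have a1 : T ≤ W := inf_le_left.trans inf_le_left
  have a2 : T ≤ W' := inf_le_left.trans inf_le_right
  have b1 : T ≤ V := inf_le_right.trans inf_le_left
  have b2 : T ≤ V' := inf_le_right.trans inf_le_right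
  rw [IsGen.coef_eq _ _ (r := he.coef b1 (resM L a1 σ) * he'.coef b2 (resM M a2 τ))]
  · rw [map_mul, ordX, FF.ord_mul _ (coef_ne_zero hσ he _ _ _) (coef_ne_zero hτ he' _ _ _), Finsupp.add_apply,
      ← h0, ← h0', ← gη_res (le_inf a1 b1 : T ≤ W ⊓ V), ← gη_res (le_inf a2 b2 : T ≤ W' ⊓ V'), ← he.coef_res,
      ← he'.coef_res, resM_resM, resM_resM]
  · rw [resM_tmul, resM_tmul, resM_resM, resM_resM, resM_resM, resM_resM, mul_smul, ← tmul_smul_right,
      ← tmul_smul_left, he.coef_spec, he'.coef_spec]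

variable (hdim hc hK)

theorem exists_hasDiv {L : X.Modules} (hL : PicF.IsInvertible L) : ∃ D, HasDiv hdim hc hK L D := by
  classical
  obtain ⟨W, hW, σ, hσ⟩ := exists_isGen hL (genericPoint X)
  choose V hV e he using fun x : {x : X // IsClosed ({x} : Set X)} =>
    show ∃ (V : X.Opens), x.1 ∈ V ∧ ∃ e : Γ(L, V), IsGen L V e ∧ (x.1 ∈ W → V = W ∧ HEq e σ) by
      by_cases hx : x.1 ∈ W
      · exact ⟨W, hx, σ, hσ, fun _ => ⟨rfl, HEq.rfl⟩⟩
      · obtain ⟨V, hV, e, he⟩ := exists_isGen hL x.1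
        exact ⟨V, hV, e, he, fun h => absurd h hx⟩
  let n : {x : X // IsClosed ({x} : Set X)} → ℤ := fun x => ordX hdim hc hK x
    (gη (show genericPoint X ∈ W ⊓ V x from ⟨hW, mem_generic (hV x)⟩)
      ((he x).1.coef inf_le_right (resM L inf_le_left σ)))
  have hn : ∀ x : {x : X // IsClosed ({x} : Set X)}, x.1 ∈ W → n x = 0 := fun x hx => by
    have hu : ∀ (U : X.Opens) (e' : Γ(L, U)) (he' : IsGen L U e') (hU : x.1 ∈ U), U = W → HEq e' σ →
        ordX hdim hc hK x (gη (show genericPoint X ∈ W ⊓ U from ⟨hW, mem_generic hU⟩)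
          (he'.coef inf_le_right (resM L inf_le_left σ))) = 0 := by
      rintro U e' he' hU rfl hee
      obtain rfl := eq_of_heq hee
      rw [he'.coef_self, map_one]
      exact FF.ord_one _
    exact hu _ _ _ (hV x) ((he x).2 hx).1 ((he x).2 hx).2
  haveI := CurveRR24.isLocallyNoetherian_of_proper k (X := X)
  haveI : CompactSpace X := QuasiCompact.compactSpace_of_compactSpace (X ↘ Spec (CommRingCat.of k))
  haveI : JacobsonSpace X := LocallyOfFiniteType.jacobsonSpace (X ↘ Spec (CommRingCat.of k))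
  haveI : IsNoetherian X := {}
  have hfin : {x : {x : X // IsClosed ({x} : Set X)} | x.1 ∉ W}.Finite :=
    (CurveLib.finite_of_isClosed (fun x hx => ringKrullDim_stalk_closed k hdim hx) W.isOpen.isClosed_compl
      (fun h => (show genericPoint X ∈ (W : Set X)ᶜ from h ▸ trivial) hW)).1.preimage
        Subtype.val_injective.injOn
  let m : Place k X.functionField → ℤ := fun P => n ((placeOf_bijective hdim hc hK).2 P).choose
  have hm : ∀ x, m (placeOf hdim hc hK x) = n x := fun x => congrArg n ((placeOf_bijective hdim hc hK).1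
    ((placeOf_bijective hdim hc hK).2 (placeOf hdim hc hK x)).choose_spec)
  have hs : (Function.support m).Finite := by
    refine (hfin.image (placeOf hdim hc hK)).subset fun P hP => ?_
    obtain ⟨x, rfl⟩ := (placeOf_bijective hdim hc hK).2 P
    refine ⟨x, fun hx => hP ?_, rfl⟩
    rw [hm, hn x hx]
  exact ⟨Finsupp.ofSupportFinite m hs, W, hW, σ, hσ, fun x => ⟨V x, hV x, e x, (he x).1, (hm x).symm⟩⟩

/-- A class with divisor zero is trivial. -/
theorem nonempty_iso_of_hasDiv_zero {L : X.Modules} (h : HasDiv hdim hc hK L 0) :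
    Nonempty (L ≅ Coh.structureModule X) := by
  classical
  obtain ⟨W, hW, σ, hσ, hD⟩ := h
  have key : ∀ x : {x : X // IsClosed ({x} : Set X)}, ∃ (N : X.Opens) (_ : x.1 ∈ N) (s : Γ(L, N)),
      IsGen L N s ∧ resM L (inf_le_right : W ⊓ N ≤ N) s = resM L inf_le_left σ := fun x => by
    obtain ⟨V, hV, e, he, h0⟩ := hD x
    set u := he.coef (inf_le_right : W ⊓ V ≤ V) (resM L inf_le_left σ)
    set hη : genericPoint X ∈ W ⊓ V := ⟨hW, mem_generic hV⟩
    have hu0 : gη hη u ≠ 0 := coef_ne_zero hσ he _ _ hη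
    rw [Finsupp.zero_apply] at h0
    obtain ⟨b, hb⟩ := (mem_placeOf_iff hdim hc hK x _).1 ((FF.val_le_one_iff _ hu0).2 h0.ge)
    obtain ⟨b', hb'⟩ := (mem_placeOf_iff hdim hc hK x _).1
      ((FF.val_le_one_iff _ (inv_ne_zero hu0)).2 (by rw [FF.ord_inv]; exact (neg_eq_zero.2 h0).ge))
    have hbu : IsUnit b := IsUnit.of_mul_eq_one b' (IsFractionRing.injective (X.presheaf.stalk x.1) X.functionField
      (by rw [map_mul, hb, hb', mul_inv_cancel₀ hu0, map_one]))
    obtain ⟨N₀, hN₀, b₀, rfl⟩ := X.presheaf.germ_exist b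
    have hxN : x.1 ∈ X.basicOpen b₀ ⊓ V := ⟨(X.mem_basicOpen b₀ _ hN₀).2 hbu, hV⟩
    set N := X.basicOpen b₀ ⊓ V
    have hN : N ≤ N₀ := inf_le_left.trans (X.basicOpen_le b₀)
    have hbN : IsUnit (res hN b₀) := by
      rw [← PicLib.res_res (X.basicOpen_le b₀) (inf_le_left : N ≤ X.basicOpen b₀)]
      exact IsUnit.map _ (RingedSpace.isUnit_res_basicOpen X.toRingedSpace b₀)
    obtain ⟨w, hw⟩ := hbN
    refine ⟨N, hxN, (w : Γ(X, N)) • resM L inf_le_right e, (he.restrict _).smul_unit w, ?_⟩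
    have hηT : genericPoint X ∈ W ⊓ N := ⟨hW, mem_generic hxN⟩
    have hle : W ⊓ N ≤ W ⊓ V := inf_le_inf_left W inf_le_right
    rw [resM_smul, resM_resM, show resM L (inf_le_left : W ⊓ N ≤ W) σ = resM L hle (resM L inf_le_left σ) from
      (resM_resM _ _ _ _).symm, ← he.coef_spec (inf_le_right : W ⊓ V ≤ V) (resM L inf_le_left σ), resM_smul, resM_resM]
    refine congrArg (· • _) (gη_injective hηT ?_)
    show gη hηT (res inf_le_right (w : Γ(X, N))) = gη hηT (res hle u)
    rw [gη_res, gη_res, hw, gη_res, gη_eq_stalk hN₀, hb]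
  choose N hN s hs heq using key
  let U : Option {x : X // IsClosed ({x} : Set X)} → X.Opens := fun i => i.elim W N
  let t : ∀ i, Γ(L, U i) := fun i => match i with
    | none => σ
    | some x => s x
  have ht : ∀ i, IsGen L (U i) (t i) := fun i => match i with
    | none => hσ
    | some x => hs x
  have hres : ∀ i (T : X.Opens) (h1 : T ≤ W) (h2 : T ≤ U i), resM L h2 (t i) = resM L h1 σ := fun i T h1 h2 => by
    cases i with
    | none => rfl
    | some x =>
      have := congrArg (resM L (le_inf h1 h2 : T ≤ W ⊓ N x)) (heq x)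
      rwa [resM_resM, resM_resM] at this
  have hcov : (⊤ : X.Opens) ≤ iSup U := fun y _ => Opens.mem_iSup.2 (by
    rcases CurvesLib24.eq_genericPoint_or_isClosed hdim.le y with rfl | hy
    · exact ⟨none, hW⟩
    · exact ⟨some ⟨y, hy⟩, hN _⟩)
  obtain ⟨g, hg⟩ := (TopCat.Sheaf.existsUnique_gluing' (⟨L.presheaf, L.isSheaf⟩ : TopCat.Sheaf Ab X) U ⊤
    (fun i => homOfLE le_top) hcov t (fun i j => by
      show resM L (inf_le_left : U i ⊓ U j ≤ U i) (t i) = resM L (inf_le_right : U i ⊓ U j ≤ U j) (t j)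
      set T := U i ⊓ U j
      rcases (T : Set X).eq_empty_or_nonempty with hT | ⟨y, hy⟩
      · have : T = ⊥ := Opens.ext hT
        refine TopCat.Sheaf.eq_of_locally_eq' (⟨L.presheaf, L.isSheaf⟩ : TopCat.Sheaf Ab X)
          (fun e : PEmpty.{u+1} => e.elim) T (fun e => e.elim) (by rw [this]; exact bot_le) _ _ fun e => e.elim
      have hηT : genericPoint X ∈ W ⊓ T := ⟨hW, mem_generic hy⟩
      have hj : T ≤ U j := inf_le_right
      rw [← (ht j).coef_spec hj (resM L (inf_le_left : T ≤ U i) (t i))]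
      conv_rhs => rw [← one_smul Γ(X, T) (resM L hj (t j))]
      refine congrArg (· • _) (gη_injective (mem_generic hy) ?_)
      rw [← gη_res (inf_le_right : W ⊓ T ≤ T) hηT, ← gη_res (inf_le_right : W ⊓ T ≤ T) hηT, map_one]
      refine congrArg (gη hηT) ?_
      rw [← (ht j).coef_res]
      refine (ht j).coef_eq _ ?_
      rw [one_smul, resM_resM, hres i _ inf_le_left, hres j _ inf_le_left])).exists
  have hgen : IsGen L ⊤ g := isGen_of_cover U (fun i => le_top) hcov fun i => by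
    rw [show resM L le_top g = t i from hg i]
    exact ht i
  haveI : IsIso (unitDesc L g) := isIso_of_isGen _ (by rw [unitVal_unitDesc, resM_self]; exact hgen)
  exact ⟨(asIso (unitDesc L g)).symm⟩

theorem hasDiv_structure : HasDiv hdim hc hK (Coh.structureModule X) 0 := by
  obtain ⟨D, hD⟩ := exists_hasDiv hdim hc hK (isInvertible_structureModule (X := X))
  obtain ⟨a, ha, he⟩ := hD.unique ((hD.tensor hD).congr (unitTensorIso _))
  rw [add_right_inj] at he
  have := hD.add_div (inv_ne_zero ha)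
  rwa [FF.div_inv hK, ← he, add_neg_cancel] at this

/-- The ideal of a closed point has divisor minus the place. -/
theorem hasDiv_ptIdeal {P : X} (hP : IsClosed ({P} : Set X)) :
    HasDiv hdim hc hK (ClSub.idealMod (ptIdeal P hP)) (Finsupp.single (placeOf hdim hc hK ⟨P, hP⟩) (-1)) := by
  classical
  haveI := isDVR_stalk k hdim hP
  haveI := CurveRR24.isLocallyNoetherian_of_proper k (X := X)
  let I := ptIdeal P hP
  haveI := mono_idealModι I
  let O : X.Opens := ⟨(I.support : Set X)ᶜ, I.support.2.isOpen_compl⟩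
  have hmemO : ∀ y : X, y ≠ P → y ∈ O := fun y hy h => hy (by
    rw [SetLike.mem_coe, ← SetLike.mem_coe, support_ptIdeal hP] at h; exact h)
  obtain ⟨σ, hσ1⟩ := exists_idealModι_eq_one I
  have hι : ∀ (V : X.Opens) (hV : V ≤ O), (ClSub.idealModι I).app V (resM _ hV σ) = (1 : Γ(X, V)) := fun V hV => by
    rw [app_resM]
    exact (congrArg (resM (Coh.structureModule X) hV) hσ1).trans (map_one (res hV))
  have hσ : IsGen (ClSub.idealMod I) O σ := by
    intro V hV
    have key : ∀ r : Γ(X, V), (ClSub.idealModι I).app V (r • resM _ hV σ) = r := fun r => by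
      rw [Scheme.Modules.Hom.app_smul, hι V hV]; exact mul_one r
    exact ⟨fun a b h => (key a).symm.trans ((congrArg _ h).trans (key b)),
      fun x => ⟨(ClSub.idealModι I).app V x, app_injective_of_mono (ClSub.idealModι I) V (key _)⟩⟩
  have hO : genericPoint X ∈ O := hmemO _ fun h => CurvesLib24.not_isClosed_genericPoint hdim (h ▸ hP)
  obtain ⟨U, hPU, e, he⟩ := exists_isGen (CurveRR24.isInvertible_ptIdeal_of_dvr hP) P
  refine ⟨O, hO, σ, hσ, fun x => ?_⟩
  by_cases hx : x.1 = P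
  swap
  · refine ⟨O, hmemO _ hx, σ, hσ, ?_⟩
    rw [hσ.coef_self, map_one, Finsupp.single_eq_of_ne]
    · exact FF.ord_one _
    · exact fun h => hx (congrArg Subtype.val ((placeOf_bijective hdim hc hK).1 h).symm).symm
  obtain rfl : x = ⟨P, hP⟩ := Subtype.ext hx
  refine ⟨U, hPU, e, he, ?_⟩
  rw [Finsupp.single_eq_same]
  set Q := placeOf hdim hc hK ⟨P, hP⟩
  set hη : genericPoint X ∈ O ⊓ U := ⟨hO, mem_generic hPU⟩
  set v := he.coef (inf_le_right : O ⊓ U ≤ U) (resM _ inf_le_left σ)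
  set a : Γ(X, U) := (ClSub.idealModι I).app U e
  have hva : v * res inf_le_right a = 1 := by
    have h := congrArg ((ClSub.idealModι I).app (O ⊓ U))
      (he.coef_spec (inf_le_right : O ⊓ U ≤ U) (resM _ inf_le_left σ))
    rw [Scheme.Modules.Hom.app_smul, app_resM, hι] at h
    exact h
  have hva' : gη hη v * gη (mem_generic hPU) a = 1 := by
    rw [← gη_res (inf_le_right : O ⊓ U ≤ U) hη, ← map_mul, hva, map_one]
  have hv0 : gη hη v ≠ 0 := left_ne_zero_of_mul_eq_one hva'
  have ha0 : gη (mem_generic hPU) a ≠ 0 := right_ne_zero_of_mul_eq_one hva'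
  -- `a` vanishes at `P`
  obtain ⟨U', hU', hPU', hU'U⟩ := exists_isAffineOpen_mem_and_subset (x := P) (U := U) hPU
  have hres : ∀ (U₁ : X.affineOpens) (hP₁ : P ∈ U₁.1) (b : Γ(X, U₁)), b ∈ I.ideal U₁ →
      gη (mem_generic hP₁) b ≠ 0 → 1 ≤ ordX hdim hc hK ⟨P, hP⟩ (gη (mem_generic hP₁) b) := by
    intro U₁ hP₁ b hb hb0
    by_contra hlt
    push Not at hlt
    have h0 : ordX hdim hc hK ⟨P, hP⟩ (gη (mem_generic hP₁) b) = 0 := by
      have := ordX_nonneg hdim hc hK ⟨P, hP⟩ hP₁ b hb0; omega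
    obtain ⟨b', hb'⟩ := (mem_placeOf_iff hdim hc hK ⟨P, hP⟩ _).1
      ((FF.val_le_one_iff _ (inv_ne_zero hb0)).2 (by rw [FF.ord_inv]; exact (neg_eq_zero.2 h0).ge))
    refine (mem_ptIdeal_iff hP U₁ b).1 hb ((X.mem_basicOpen b P hP₁).2 ?_)
    exact IsUnit.of_mul_eq_one b' (IsFractionRing.injective (X.presheaf.stalk P) X.functionField
      (by rw [map_mul, hb', map_one, ← gη_eq_stalk hP₁ (mem_generic hP₁), mul_inv_cancel₀ hb0]))
  have hmem : ∀ (U₁ : X.affineOpens) (b : Γ(X, U₁)), b ∈ I.ideal U₁ ↔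
      ∃ z, (ClSub.idealModι I).app U₁.1 z = b := fun U₁ b => by
    rw [mem_range_idealModι, ← I.ker_subschemeι_app U₁]; exact RingHom.mem_ker
  have ha1 : 1 ≤ Q.ord (gη (mem_generic hPU) a) := by
    have h := hres ⟨U', hU'⟩ hPU' (res hU'U a) ((hmem ⟨U', hU'⟩ _).2
      ⟨resM _ hU'U e, by rw [app_resM]; rfl⟩) (by rw [gη_res]; exact ha0)
    rwa [gη_res] at h
  -- a uniformiser is a section of the ideal
  obtain ⟨t, ht0, ht⟩ := FF.exists_uniformizer Q
  have hto : Q.ord t = 1 := FF.ord_eq_of_val _ (by rw [ht])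
  obtain ⟨t', ht'⟩ := (mem_placeOf_iff hdim hc hK ⟨P, hP⟩ t).1
    ((FF.val_le_one_iff _ ht0).2 (by rw [hto]; norm_num))
  obtain ⟨N, hPN, b, rfl⟩ := X.presheaf.germ_exist t'
  obtain ⟨U₂, hU₂, hPU₂, hU₂le⟩ := exists_isAffineOpen_mem_and_subset (x := P) (U := N ⊓ U) ⟨hPN, hPU⟩
  have hb1 : gη (mem_generic hPU₂) (res (hU₂le.trans inf_le_left) b) = t := by
    rw [gη_res, gη_eq_stalk hPN]; exact ht'
  obtain ⟨z, hz⟩ := (hmem ⟨U₂, hU₂⟩ (res (hU₂le.trans inf_le_left) b)).1 ((mem_ptIdeal_iff hP ⟨U₂, hU₂⟩ _).2 fun h => by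
    have h1 := ordX_unit hdim hc hK ⟨P, hP⟩ h
      (RingedSpace.isUnit_res_basicOpen X.toRingedSpace (res (hU₂le.trans inf_le_left) b) :
        IsUnit (res (X.basicOpen_le _) (res (hU₂le.trans inf_le_left) b)))
    have hb2 : gη (mem_generic h) (res (X.basicOpen_le _) (res (hU₂le.trans inf_le_left) b)) = t :=
      (gη_res _ _ _).trans hb1
    have h2 : Q.ord (gη (mem_generic h) (res (X.basicOpen_le _) (res (hU₂le.trans inf_le_left) b))) = 0 := h1
    rw [hb2, hto] at h2
    exact one_ne_zero h2)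
  have hzb : he.coef (hU₂le.trans inf_le_right) z * res (hU₂le.trans inf_le_right) a =
      res (hU₂le.trans inf_le_left) b := by
    refine Eq.trans ?_ hz
    conv_rhs => rw [← he.coef_spec (hU₂le.trans inf_le_right : U₂ ≤ U) z]
    rw [Scheme.Modules.Hom.app_smul, app_resM]
    rfl
  have hge : Q.ord (gη (mem_generic hPU) a) ≤ 1 := by
    have h1 := congrArg (gη (mem_generic hPU₂)) hzb
    rw [map_mul, gη_res, hb1] at h1
    have hz0 : gη (mem_generic hPU₂) (he.coef (hU₂le.trans inf_le_right) z) ≠ 0 :=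
      fun h => ht0 (by rw [← h1, h, zero_mul])
    have h2 := congrArg Q.ord h1
    rw [FF.ord_mul _ hz0 ha0, hto] at h2
    have := ordX_nonneg hdim hc hK ⟨P, hP⟩ hPU₂ _ hz0
    change 0 ≤ Q.ord _ at this
    omega
  have h3 := congrArg Q.ord hva'
  rw [FF.ord_mul _ hv0 ha0, FF.ord_one] at h3
  show Q.ord (gη hη v) = -1
  omega

/-- `D` is a divisor of the class `c`. -/
def ClassDiv (c : InvCl X) (D : Divisor k X.functionField) : Prop :=
  ∃ L hL, InvCl.mk L hL = c ∧ HasDiv hdim hc hK L D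

variable {hdim hc hK}

theorem ClassDiv.add {c d : InvCl X} {D E : Divisor k X.functionField} (h : ClassDiv hdim hc hK c D)
    (h' : ClassDiv hdim hc hK d E) : ClassDiv hdim hc hK (c * d) (D + E) := by
  obtain ⟨L, hL, rfl, hD⟩ := h
  obtain ⟨M, hM, rfl, hE⟩ := h'
  exact ⟨_, isInvertible_tensorMod hL hM, rfl, hD.tensor hE⟩

theorem ClassDiv.unique {c : InvCl X} {D E : Divisor k X.functionField} (h : ClassDiv hdim hc hK c D)
    (h' : ClassDiv hdim hc hK c E) :
    (QuotientAddGroup.mk D : FF.DivCl k X.functionField) = QuotientAddGroup.mk E := by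
  obtain ⟨L, hL, rfl, hD⟩ := h
  obtain ⟨M, hM, he, hE⟩ := h'
  obtain ⟨φ⟩ : Nonempty (M ≅ L) := Quotient.exact he
  obtain ⟨a, ha, h⟩ := hD.unique (hE.congr φ)
  exact (FF.cl_eq_iff hK).2 ⟨a, ha, h⟩

variable (hdim hc hK)

theorem exists_classDiv (c : InvCl X) : ∃ D, ClassDiv hdim hc hK c D := by
  obtain ⟨L, hL, rfl⟩ := InvCl.exists_rep c
  obtain ⟨D, hD⟩ := exists_hasDiv hdim hc hK hL
  exact ⟨D, L, hL, rfl, hD⟩

/-- The divisor class of an invertible class. -/
noncomputable def divCl (c : InvCl X) : FF.DivCl k X.functionField :=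
  QuotientAddGroup.mk (exists_classDiv hdim hc hK c).choose

theorem divCl_eq {c : InvCl X} {D : Divisor k X.functionField} (h : ClassDiv hdim hc hK c D) :
    divCl hdim hc hK c = QuotientAddGroup.mk D :=
  (exists_classDiv hdim hc hK c).choose_spec.unique h

theorem divCl_mul (c d : InvCl X) : divCl hdim hc hK (c * d) = divCl hdim hc hK c + divCl hdim hc hK d := by
  rw [divCl_eq hdim hc hK ((exists_classDiv hdim hc hK c).choose_spec.add (exists_classDiv hdim hc hK d).choose_spec)]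
  rfl

theorem divCl_one : divCl hdim hc hK (1 : InvCl X) = 0 :=
  divCl_eq hdim hc hK ⟨_, isInvertible_structureModule, rfl, hasDiv_structure hdim hc hK⟩

theorem divCl_injective : Function.Injective (divCl hdim hc hK) := by
  intro c d h
  obtain ⟨d', hd'⟩ := exists_mul_eq_one k d
  have h0 : divCl hdim hc hK (c * d') = 0 := by
    rw [divCl_mul, h, ← divCl_mul, hd', divCl_one]
  obtain ⟨D, hD⟩ := exists_classDiv hdim hc hK (c * d')
  rw [divCl_eq hdim hc hK hD] at h0
  obtain ⟨a, ha, hDa⟩ := (FF.cl_eq_iff hK).1 h0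
  obtain ⟨L, hL, hLc, hLD⟩ := hD
  have h1 := hLD.add_div ha
  rw [← hDa] at h1
  obtain ⟨φ⟩ := nonempty_iso_of_hasDiv_zero hdim hc hK h1
  have hcd : c * d' = 1 := by rw [← hLc]; exact InvCl.mk_eq hL isInvertible_structureModule φ
  calc c = c * (d' * d) := by rw [mul_comm d', hd', mul_one]
    _ = d := by rw [← mul_assoc, hcd, one_mul]

theorem divCl_ptIdeal (x : {x : X // IsClosed ({x} : Set X)})
    (hI : PicF.IsInvertible (ClSub.idealMod (ptIdeal x.1 x.2))) :
    divCl hdim hc hK (InvCl.mk _ hI) = -QuotientAddGroup.mk (Finsupp.single (placeOf hdim hc hK x) 1) := by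
  rw [divCl_eq hdim hc hK ⟨_, hI, rfl, hasDiv_ptIdeal hdim hc hK x.2⟩, Finsupp.single_neg]
  rfl

theorem exists_class_of_divCl (c : FF.DivCl k X.functionField) :
    ∃ l : InvCl X, divCl hdim hc hK l = c ∧ degCl k l = FF.clDeg hK c := by
  classical
  let S : AddSubgroup (FF.DivCl k X.functionField) :=
    { carrier := {c | ∃ l : InvCl X, divCl hdim hc hK l = c ∧ degCl k l = FF.clDeg hK c}
      zero_mem' := ⟨1, divCl_one hdim hc hK, by rw [map_zero]; exact CurveRR24.deg_structure k⟩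
      add_mem' := by
        rintro a b ⟨l, h1, h2⟩ ⟨m, h3, h4⟩
        exact ⟨l * m, by rw [divCl_mul, h1, h3], by rw [degCl_mul k hdim.le, h2, h4, map_add]⟩
      neg_mem' := by
        rintro a ⟨l, h1, h2⟩
        obtain ⟨m, hm⟩ := exists_mul_eq_one k l
        have e1 := congrArg (divCl hdim hc hK) hm
        rw [divCl_mul, divCl_one, h1] at e1
        have e2 := congrArg (degCl k) hm
        rw [degCl_mul k hdim.le, h2, show degCl k (1 : InvCl X) = 0 from CurveRR24.deg_structure k] at e2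
        exact ⟨m, eq_neg_of_add_eq_zero_right e1, by rw [map_neg]; omega⟩ }
  show c ∈ S
  induction c using QuotientAddGroup.induction_on with
  | H D =>
    induction D using Finsupp.induction_linear with
    | zero => exact S.zero_mem
    | add f g hf hg => exact S.add_mem hf hg
    | single P n =>
      rw [show Finsupp.single P n = n • Finsupp.single P (1 : ℤ) by simp,
        QuotientAddGroup.mk_zsmul]
      refine S.zsmul_mem ?_ n
      rw [← neg_neg (QuotientAddGroup.mk (Finsupp.single P (1 : ℤ)) : FF.DivCl k X.functionField)]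
      refine S.neg_mem ?_
      obtain ⟨x, rfl⟩ := (placeOf_bijective hdim hc hK).2 P
      haveI := isDVR_stalk k hdim x.2
      haveI := CurveRR24.isLocallyNoetherian_of_proper k (X := X)
      have hI := CurveRR24.isInvertible_ptIdeal_of_dvr x.2
      refine ⟨InvCl.mk _ hI, divCl_ptIdeal hdim hc hK x hI, ?_⟩
      rw [map_neg, FF.clDeg_mk, FF.deg_single, one_mul, deg_placeOf hdim hc hK x, degCl_mk]
      letI := Curv2.resAlgebra k X x.1
      have hres : Module.finrank k (X.residueField x.1) =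
          EGA4loc.residueDegree (X ↘ Spec (CommRingCat.of k)) x.1 := by
        rw [WeilLib.residueDegree_eq_rdeg]
        unfold WeilLib.rdeg
        congr 2
        exact Algebra.algebra_ext _ _ fun c => (baseRingHom_eq (k := k) x.1 c).symm
      rw [CurveRR24.deg_ptIdeal k x.2, ← hres]

/-- Classes of each degree. -/
theorem natCard_degCl (m : ℤ) :
    Nat.card {c : InvCl X // degCl k c = m} = Nat.card {c : FF.DivCl k X.functionField // FF.clDeg hK c = m} := by
  have hdeg : ∀ l : InvCl X, FF.clDeg hK (divCl hdim hc hK l) = degCl k l := fun l => by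
    obtain ⟨l', h1, h2⟩ := exists_class_of_divCl hdim hc hK (divCl hdim hc hK l)
    rw [divCl_injective hdim hc hK h1] at h2
    exact h2.symm
  refine Nat.card_congr (Equiv.ofBijective (fun c => ⟨divCl hdim hc hK c.1, (hdeg c.1).trans c.2⟩) ⟨?_, ?_⟩)
  · exact fun a b h => Subtype.ext (divCl_injective hdim hc hK (congrArg Subtype.val h))
  · rintro ⟨c, hc'⟩
    obtain ⟨l, h1, h2⟩ := exists_class_of_divCl hdim hc hK c
    exact ⟨⟨l, h2.trans hc'⟩, Subtype.ext h1⟩

end Groth.Agent.Zeta24
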