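import Groth.Agent.Zeta24.Count
import Groth.Agent.CurveRR24.DegGroup
import Groth.Agent.CurveRR24.GG
import Groth.Agent.CurveRR24.Section
import Groth.Agent.Surf15.CycleSections
import Groth.Agent.EulerLib.InvClass
import Groth.Prelude.Def_Pic

/-!
# Finiteness of the Picard groups `Pic^m` of a curve over a finite field
-/

set_option autoImplicit false
set_option linter.style.haveILetI false
set_option backward.isDefEq.respectTransparency.types false

universe u

open CategoryTheory CategoryTheory.Limits AlgebraicGeometry Opposite TopologicalSpace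
open Groth.Agent.Coherent Groth.Agent.PicLib Groth.Agent.AmpleLib Groth.Agent.EulerLib Groth.Agent.CurveRR24

namespace Groth.Agent.Zeta24

variable (k : Type u) [Field k] {X : Scheme.{u}} [X.Over (Spec (CommRingCat.of k))]
  [IsProper (X ↘ Spec (CommRingCat.of k))]

omit [IsProper (X ↘ Spec (CommRingCat.of k))] in
/-- The degree on classes. -/
noncomputable def degCl (c : InvCl X) : ℤ :=
  Quotient.lift (fun L : EulerLib.Inv X => Curv2.deg k X L.1 1)
    (fun a b (h : Nonempty (a.1 ≅ b.1)) => CurveRR24.deg_congr k h.some 1) c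

omit [IsProper (X ↘ Spec (CommRingCat.of k))] in
theorem degCl_mk {L : X.Modules} (hL : PicF.IsInvertible L) : degCl k (InvCl.mk L hL) = Curv2.deg k X L 1 := rfl

theorem degCl_mul (hdim : topologicalKrullDim X ≤ 1) (a b : InvCl X) :
    degCl k (a * b) = degCl k a + degCl k b := by
  obtain ⟨L, hL, rfl⟩ := InvCl.exists_rep a
  obtain ⟨M, hM, rfl⟩ := InvCl.exists_rep b
  rw [InvCl.mk_mul, degCl_mk, degCl_mk, degCl_mk]
  exact CurveRR24.deg_tensor k hdim hL hM

include k in
omit [IsProper (X ↘ Spec (CommRingCat.of k))] in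
theorem exists_mul_eq_one (a : InvCl X) : ∃ b : InvCl X, a * b = 1 := by
  obtain ⟨L, hL, rfl⟩ := InvCl.exists_rep a
  obtain ⟨M, hM, ⟨e⟩⟩ := CurveRR24.exists_inverse k hL
  exact ⟨InvCl.mk M hM, (InvCl.mk_mul hL hM).trans (InvCl.mk_eq _ isInvertible_structureModule e)⟩

omit [IsProper (X ↘ Spec (CommRingCat.of k))] in
/-- `Pic^m` as classes of invertible modules. -/
noncomputable def clEquiv (m : ℤ) : {c : InvCl X // degCl k c = m} ≃
    {c : PicF.Cl X // ∃ L : X.Modules, PicF.cl L = c ∧ PicF.IsInvertible L ∧ Curv2.deg k X L 1 = m} := by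
  refine Equiv.ofBijective (fun c => ⟨Quotient.lift (fun L : EulerLib.Inv X => PicF.cl L.1)
    (fun _ _ h => Quot.sound h) c.1, ?_⟩) ⟨?_, ?_⟩
  · obtain ⟨c, hc⟩ := c
    obtain ⟨L, hL, rfl⟩ := InvCl.exists_rep c
    exact ⟨L, rfl, hL, hc⟩
  · rintro ⟨c, hc⟩ ⟨d, hd⟩ h
    obtain ⟨L, hL, rfl⟩ := InvCl.exists_rep c
    obtain ⟨M, hM, rfl⟩ := InvCl.exists_rep d
    have h' : PicF.cl L = PicF.cl M := congrArg Subtype.val h
    have heq : Equivalence fun (L L' : X.Modules) => Nonempty (L ≅ L') :=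
      ⟨fun _ => ⟨Iso.refl _⟩, fun ⟨e⟩ => ⟨e.symm⟩, fun ⟨e⟩ ⟨e'⟩ => ⟨e ≪≫ e'⟩⟩
    obtain ⟨e⟩ := heq.eqvGen_iff.1 (Quot.eqvGen_exact h')
    exact Subtype.ext (InvCl.mk_eq hL hM e)
  · rintro ⟨_, L, rfl, hL, hd⟩
    exact ⟨⟨InvCl.mk L hL, hd⟩, rfl⟩

variable [Finite k] [IsIntegral X] [Smooth (X ↘ Spec (CommRingCat.of k))] (hdim : topologicalKrullDim X = 1)

include hdim

/-- A section with a zero comes from a point twist. -/
theorem exists_point_twist {L : X.Modules} (hL : PicF.IsInvertible L) (hs : Nontrivial (Coh.HH X L 0))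
    (hdeg : 0 < Curv2.deg k X L 1) : ∃ (P : X) (hP : IsClosed ({P} : Set X)),
      Nontrivial (Coh.HH X (CohB1.tensorMod L (ClSub.idealMod (ptIdeal P hP))) 0) := by
  obtain ⟨s', hs'⟩ : ∃ s' : Γ(CohB1.tensorMod (Coh.structureModule X) L, ⊤), s' ≠ 0 := by
    obtain ⟨s, hs0⟩ := exists_ne_zero_of_nontrivial k hs
    refine ⟨(unitTensorIso L).inv.app ⊤ s, fun h => hs0 ?_⟩
    have := congrArg ((unitTensorIso L).hom.app ⊤) h
    rw [map_zero] at this
    rw [← this]
    exact (ConcreteCategory.congr_hom (congrArg (fun α => α.app ⊤) (unitTensorIso L).inv_hom_id) s).symm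
  set s := (unitTensorIso L).hom.app ⊤ s' with hsd
  have hne : glocus L s ≠ ⊤ := fun h => by
    obtain ⟨e⟩ := Surf15.nonempty_iso_of_glocus_eq_top h
    rw [CurveRR24.deg_congr k e, CurveRR24.deg_structure k] at hdeg
    exact lt_irrefl _ hdeg
  haveI : JacobsonSpace X := LocallyOfFiniteType.jacobsonSpace (X ↘ Spec (CommRingCat.of k))
  obtain ⟨P, hPs, hPc⟩ := nonempty_inter_closedPoints (X := X) (Z := (glocus L s : Set X)ᶜ)
    (Set.nonempty_compl.2 fun h => hne (Opens.ext (by rw [h]; rfl)))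
    (glocus L s).2.isClosed_compl.isLocallyClosed
  rw [mem_closedPoints_iff] at hPc
  refine ⟨P, hPc, ?_⟩
  let S := ptSeq hPc L
  have hS := shortExact_ptSeq hPc hL
  let x : HA (baseHom k X) S.X₂ ⊤ 0 := (secA (baseHom k X) S.X₂).symm s'
  obtain ⟨w, hw⟩ : ∃ w, postA (baseHom k X) S.f (⊤ : X.Opens) 0 w = x := by
    refine (exact_postA (baseHom k X) hS (⊤ : X.Opens) 0 x).1 ((secA (baseHom k X) _).injective ?_)
    rw [secA_natural, map_zero]
    refine (congrArg (S.g.app ⊤) ((secA (baseHom k X) S.X₂).apply_symm_apply s')).trans ?_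
    exact app_g_eq_zero_of_not_mem hPc hL s' hPs
  have hw0 : w ≠ 0 := fun h => hs' (by
    rw [h, map_zero] at hw
    have := congrArg (secA (baseHom k X) S.X₂) hw
    rw [map_zero] at this
    exact ((secA (baseHom k X) S.X₂).apply_symm_apply s').symm.trans this.symm)
  haveI : Nontrivial (Coh.HH X S.X₁ 0) := by
    refine ⟨⟨(HHBaseEquiv k S.X₁ 0).symm w, 0, fun h => hw0 ?_⟩⟩
    have := congrArg (HHBaseEquiv k S.X₁ 0) h
    rw [LinearEquiv.apply_symm_apply, map_zero] at this
    exact this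
  by_contra hc
  rw [not_nontrivial_iff_subsingleton] at hc
  haveI : Subsingleton (Coh.HH X S.X₁ 0) := CurveRR24.subsingleton_HH_congr (tensorComm L (ClSub.idealMod (ptIdeal P hPc))) 0 hc
  exact false_of_nontrivial_of_subsingleton (Coh.HH X S.X₁ 0)

/-- Classes of degree `N` with a nonzero section are finitely many. -/
theorem finite_effective (N : ℕ) :
    {c : InvCl X | degCl k c = N ∧ ∃ L hL, InvCl.mk L hL = c ∧ Nontrivial (Coh.HH X L 0)}.Finite := by
  classical
  induction N using Nat.strong_induction_on with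
  | _ N ih =>
    rcases Nat.eq_zero_or_pos N with rfl | hN
    · refine (Set.finite_singleton (1 : InvCl X)).subset ?_
      rintro c ⟨hd, L, hL, rfl, hs⟩
      obtain ⟨e⟩ := (CurveRR24.deg_nonneg_of_section k hdim.le hL hs).2.1 hd
      exact InvCl.mk_eq hL isInvertible_structureModule e
    let f := X ↘ Spec (CommRingCat.of k)
    let T := {P : X | IsClosed ({P} : Set X) ∧ EGA4loc.residueDegree f P ∈ Set.Icc 1 N}
    have hT : T.Finite := by
      refine ((Set.finite_Icc 1 N).biUnion (t := fun e => {x : X | IsClosed ({x} : Set X) ∧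
        EGA4loc.residueDegree f x = e}) fun e he => ?_).subset fun P hP => Set.mem_biUnion hP.2 ⟨hP.1, rfl⟩
      exact Set.finite_coe_iff.1 (ZetaLib.finite_degSet f (by have := he.1; omega))
    have hI : ∀ P (hP : IsClosed ({P} : Set X)), PicF.IsInvertible (ClSub.idealMod (ptIdeal P hP)) :=
      fun P hP => isInvertible_ptIdeal_of_normal k hdim hP (by
        haveI := isDVR_stalk k hdim hP; infer_instance)
    choose inv hinv using fun (P : {P : X // IsClosed ({P} : Set X)}) =>
      exists_mul_eq_one k (InvCl.mk _ (hI P.1 P.2))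
    let S : ℕ → Set (InvCl X) := fun M =>
      {c : InvCl X | degCl k c = M ∧ ∃ L hL, InvCl.mk L hL = c ∧ Nontrivial (Coh.HH X L 0)}
    have hfin : (⋃ P ∈ T, ⋃ M ∈ Set.Iio N, if h : IsClosed ({P} : Set X) then (· * inv ⟨P, h⟩) '' S M else ∅).Finite := by
      refine hT.biUnion fun P _ => (Set.finite_Iio N).biUnion fun M hM => ?_
      split_ifs
      · exact (ih M hM).image _
      · exact Set.finite_empty
    refine hfin.subset ?_
    rintro c ⟨hd, L, hL, rfl, hs⟩
    obtain ⟨P, hP, hs'⟩ := exists_point_twist k hdim hL hs (by rw [← degCl_mk k hL, hd]; exact_mod_cast hN)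
    letI := Curv2.resAlgebra k X P
    have hres : Module.finrank k (X.residueField P) =
        EGA4loc.residueDegree f P := by
      rw [WeilLib.residueDegree_eq_rdeg]
      unfold WeilLib.rdeg
      congr 2
      exact Algebra.algebra_ext _ _ fun c => (baseRingHom_eq (k := k) P c).symm
    have hdeg := deg_tensor_ptIdeal k hP hL
    have hd' : Curv2.deg k X L 1 = N := hd
    rw [hd'] at hdeg
    have hpos := (CurveRR24.deg_nonneg_of_section k hdim.le (isInvertible_tensorMod hL (hI P hP)) hs').1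
    have hdegP : 1 ≤ EGA4loc.residueDegree f P := by
      rw [← hres]
      haveI := finite_resField hP (k := k)
      exact Module.finrank_pos
    erw [hres] at hdeg
    refine Set.mem_biUnion (x := P) ⟨hP, hdegP, by omega⟩
      (Set.mem_biUnion (x := N - EGA4loc.residueDegree f P) (by simp only [Set.mem_Iio]; omega) ?_)
    rw [dif_pos hP]
    refine ⟨InvCl.mk _ (isInvertible_tensorMod hL (hI P hP)), ⟨?_, _, _, rfl, hs'⟩, ?_⟩
    · rw [degCl_mk]; omega
    · show InvCl.mk _ _ * inv ⟨P, hP⟩ = InvCl.mk L hL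
      rw [← InvCl.mk_mul hL (hI P hP), mul_assoc, hinv ⟨P, hP⟩, mul_one]

/-- All degrees occur. -/
theorem exists_degCl_eq [GeometricallyIrreducible (X ↘ Spec (CommRingCat.of k))] (m : ℤ) :
    ∃ c : InvCl X, degCl k c = m := by
  classical
  letI : Algebra k X.functionField := (Curv2.stalkMap k X (genericPoint X)).toAlgebra
  have hK := isFunctionField (k := k) hdim rfl
  obtain ⟨D, hD⟩ := FF.surjective_deg hK m
  let pt := (placeOf_bijective hdim (hc := rfl) hK).2
  choose x hx using pt
  have hmem : D.deg ∈ degGroup k hdim.le (X := X) := by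
    refine sum_mem fun P _ => ?_
    show D P * (P.deg : ℤ) ∈ _
    rw [← smul_eq_mul]
    refine (degGroup k hdim.le).zsmul_mem ?_ _
    rw [← hx P, deg_placeOf]
    haveI := isDVR_stalk k hdim (x P).2
    have h := deg_mem_degGroup k hdim (x P).2 inferInstance
    convert h using 2
    rw [WeilLib.residueDegree_eq_rdeg]
    unfold WeilLib.rdeg
    congr 2
    exact Algebra.algebra_ext _ _ fun c => baseRingHom_eq (k := k) _ c
  obtain ⟨L, hL, hd⟩ := hmem
  exact ⟨InvCl.mk L hL, hd.trans hD⟩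

theorem finite_degCl [GeometricallyIrreducible (X ↘ Spec (CommRingCat.of k))] (m : ℤ) :
    {c : InvCl X | degCl k c = m}.Finite := by
  classical
  obtain ⟨a, ha⟩ := exists_degCl_eq k hdim ((Curv2.genus k X : ℤ) - m)
  obtain ⟨b, hb⟩ := exists_mul_eq_one k a
  refine ((finite_effective k hdim (Curv2.genus k X)).image (· * b)).subset fun c hc => ?_
  simp only [Set.mem_ofPred_eq] at hc
  refine ⟨c * a, ⟨by rw [degCl_mul k hdim.le, hc, ha]; omega, ?_⟩, by
    show c * a * b = c
    rw [mul_assoc, hb, mul_one]⟩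
  obtain ⟨L, hL, hLc⟩ := InvCl.exists_rep (c * a)
  refine ⟨L, hL, hLc, ?_⟩
  have hd : Curv2.deg k X L 1 = Curv2.genus k X := by
    rw [← degCl_mk k hL, hLc, degCl_mul k hdim.le, hc, ha]; omega
  have hrr := CurveRR24.riemann_roch k hdim.le hL
  haveI := CurveRR24.isLocallyNoetherian_of_proper k (X := X)
  haveI := finite_HH_of_isCoh k (isCoh_structureModule X) 0
  haveI : Nontrivial (GA (baseHom k X) (Coh.structureModule X)) := inferInstanceAs (Nontrivial Γ(X, ⊤))
  haveI : Nontrivial (Coh.HH X (Coh.structureModule X) 0) := (hhZero k _).toEquiv.nontrivial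
  have hpos : 0 < Module.finrank k (Coh.HH X (Coh.structureModule X) 0) := Module.finrank_pos
  rw [hd] at hrr
  exact Module.nontrivial_of_finrank_pos (R := k) (by omega)

end Groth.Agent.Zeta24
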