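import Groth.Agent.LocSymLib29.Curve
import Groth.Agent.CurveLib.Completion
import Groth.Agent.H8Lim.BiratNormal
import Groth.Agent.AbVarLib.GeomIntegralSmooth
import Groth.Agent.FF.Basic
import Groth.Agent.FF.Finite
import Groth.Agent.WeilLib.Counting
import Groth.Agent.Coherent.Serre.Vanishing

/-!
# Closed points of a smooth proper curve are the places of its function field
-/

set_option autoImplicit false
set_option linter.style.haveILetI false

universe u

open CategoryTheory AlgebraicGeometry IsLocalRing
open scoped Classical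

namespace Groth.Agent.Zeta24

variable {k : Type u} [Field k] {X : Scheme.{u}} [X.Over (Spec (CommRingCat.of k))] [IsIntegral X]
  [IsProper (X ↘ Spec (CommRingCat.of k))] [Smooth (X ↘ Spec (CommRingCat.of k))]

variable (k) in
include k in
theorem isRegular_stalk (x : X) : IsRegularLocalRing (X.presheaf.stalk x) :=
  VarietyLib.isRegularLocalRing_stalk_of_smooth k X (X ↘ Spec (CommRingCat.of k)) x

omit [IsIntegral X] [IsProper (X ↘ Spec (CommRingCat.of k))] [Smooth (X ↘ Spec (CommRingCat.of k))] in
theorem baseRingHom_eq (x : X) (c : k) : DimLib.baseRingHom (X ↘ Spec (CommRingCat.of k)) x c =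
    IsLocalRing.residue (X.presheaf.stalk x) (Curv2.stalkMap k X x c) := by
  have h : CommRingCat.ofHom (DimLib.baseRingHom (X ↘ Spec (CommRingCat.of k)) x) =
      CommRingCat.ofHom ((IsLocalRing.residue (X.presheaf.stalk x)).comp (Curv2.stalkMap k X x)) := by
    apply Spec.map_injective
    rw [DimLib.specMap_baseRingHom, CommRingCat.ofHom_comp]
    refine Eq.trans ?_ (Spec.map_comp _ _).symm
    rw [CurveLib.specMap_stalkMap, ← Category.assoc]
    rfl
  exact RingHom.congr_fun (congrArg CommRingCat.Hom.hom h) c

variable (hdim : topologicalKrullDim X = 1)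

include hdim

variable (k) in
include k in
theorem isDVR_stalk {x : X} (hx : IsClosed ({x} : Set X)) : IsDiscreteValuationRing (X.presheaf.stalk x) := by
  haveI := isRegular_stalk k x
  refine LocSymLib29.isDVR_of_regular _
    (le_antisymm ((CurvesLib24.stalk_dim_le_topologicalKrullDim x).trans hdim.le) ?_)
  rw [ringKrullDim_stalk_eq_coheight]
  have hne : x ≠ genericPoint X := fun h => CurvesLib24.not_isClosed_genericPoint hdim (h ▸ hx)
  have : x < genericPoint X :=
    lt_of_le_not_ge (genericPoint_specializes x) fun h => hne (Specializes.antisymm h (genericPoint_specializes x)).eq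
  have h1 := Order.coheight_add_one_le this
  exact_mod_cast le_trans le_add_self h1

variable (k) in
include k in
theorem ringKrullDim_stalk_closed {x : X} (hx : IsClosed ({x} : Set X)) :
    ringKrullDim (X.presheaf.stalk x) = 1 :=
  haveI := isDVR_stalk k hdim hx
  IsDiscreteValuationRing.ringKrullDim_eq_one _

variable (k) in
include k in
theorem exists_valSub {x : X} (hx : IsClosed ({x} : Set X)) : ∃ R : ValuationSubring X.functionField, R ≠ ⊤ ∧
    (R : Set X.functionField) = Set.range (algebraMap (X.presheaf.stalk x) X.functionField) := by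
  haveI := isDVR_stalk k hdim hx
  exact CurveLib.exists_valuationSubring_eq_range x (IsDiscreteValuationRing.ringKrullDim_eq_one _)

variable (k) in
include k in
/-- An element of the function field lying in every closed stalk of an open is a section on it. -/
theorem mem_range_germ_of_stalks {O : X.Opens} (hη : genericPoint X ∈ O) (ξ : X.functionField)
    (h : ∀ x ∈ O, IsClosed ({x} : Set X) → ξ ∈ Set.range (algebraMap (X.presheaf.stalk x) X.functionField)) :
    ξ ∈ Set.range (X.presheaf.germ O _ hη) := by
  refine H8Lim.mem_range_germ_of_local hη ξ fun x hx => ?_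
  rcases CurvesLib24.eq_genericPoint_or_isClosed hdim.le x with rfl | hc
  · obtain ⟨W, hW, s, hs⟩ := X.presheaf.germ_exist ξ
    refine ⟨W ⊓ O, ⟨hW, hη⟩, inf_le_right, ⟨hW, hx⟩, X.presheaf.map (homOfLE inf_le_left).op s, ?_⟩
    erw [TopCat.Presheaf.germ_res_apply]
    exact hs
  · obtain ⟨a, ha⟩ := h x hx hc
    obtain ⟨W, hW, s, rfl⟩ := X.presheaf.germ_exist a
    have hηW : genericPoint X ∈ W := (genericPoint_specializes x).mem_open W.isOpen hW
    refine ⟨W ⊓ O, ⟨hηW, hη⟩, inf_le_right, ⟨hW, hx⟩, X.presheaf.map (homOfLE inf_le_left).op s, ?_⟩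
    erw [TopCat.Presheaf.germ_res_apply]
    rw [← ha]
    show _ = (X.presheaf.stalkSpecializes (genericPoint_specializes x)).hom ((X.presheaf.germ W x hW).hom s)
    exact ((ConcreteCategory.congr_hom (TopCat.Presheaf.germ_stalkSpecializes X.presheaf hW
      (genericPoint_specializes x)) s)).symm

variable (k) in
include k in
theorem exists_closed : ∃ x : X, IsClosed ({x} : Set X) := by
  haveI : JacobsonSpace X := LocallyOfFiniteType.jacobsonSpace (X ↘ Spec (CommRingCat.of k))
  obtain ⟨x, -, hx⟩ := nonempty_inter_closedPoints (X := X) (Z := Set.univ) (Set.univ_nonempty (α := X))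
    isClosed_univ.isLocallyClosed
  exact ⟨x, mem_closedPoints_iff.mp hx⟩

variable [Algebra k X.functionField] (hc : algebraMap k X.functionField = Curv2.stalkMap k X (genericPoint X))

include hc

omit hdim [IsProper (X ↘ Spec (CommRingCat.of k))] [Smooth (X ↘ Spec (CommRingCat.of k))] in
theorem const_eq (x : X) (c : k) :
    algebraMap k X.functionField c = algebraMap (X.presheaf.stalk x) X.functionField (Curv2.stalkMap k X x c) := by
  rw [hc]
  show (X.presheaf.germ ⊤ (genericPoint X) trivial).hom _ =
    (X.presheaf.stalkSpecializes (genericPoint_specializes x)).hom ((X.presheaf.germ ⊤ x trivial).hom _)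
  exact ((ConcreteCategory.congr_hom (TopCat.Presheaf.germ_stalkSpecializes X.presheaf (U := ⊤) trivial
    (genericPoint_specializes x)) _)).symm

theorem isFunctionField [GeometricallyIrreducible (X ↘ Spec (CommRingCat.of k))] :
    FunFld.IsFunctionField k X.functionField := by
  have halgeq : (inferInstance : Algebra k X.functionField) = Curv2.stalkAlgebra k X (genericPoint X) :=
    Algebra.algebra_ext _ _ (RingHom.congr_fun hc)
  refine ⟨?_, fun y hy => ?_⟩
  · have hfg : (⊤ : IntermediateField k X.functionField).FG := by
      have := CurveLib.functionField_fg (k := k) X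
      rwa [← halgeq] at this
    have htr : Algebra.trdeg k X.functionField = 1 := by
      have := CurveLib.functionField_trdeg (k := k) X fun x hx => ringKrullDim_stalk_closed k hdim hx
      rwa [← halgeq] at this
    obtain ⟨t, htt⟩ : ∃ t : X.functionField, Transcendental k t := by
      by_contra hne
      push Not at hne
      haveI : Algebra.IsAlgebraic k X.functionField := ⟨fun a => not_not.1 (hne a)⟩
      rw [trdeg_eq_zero] at htr
      exact zero_ne_one htr
    refine ⟨t, htt, ?_⟩
    have hb := AlgebraicIndependent.isTranscendenceBasis_of_trdeg_le_of_finite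
      (x := fun _ : PUnit.{u+1} => t) (algebraicIndependent_unique_type_iff.mpr htt) (by rw [htr]; simp)
    obtain ⟨S, hS⟩ := hfg
    haveI halg : Algebra.IsAlgebraic (IntermediateField.adjoin k ({t} : Set X.functionField)) X.functionField := by
      have h := hb.isAlgebraic_field
      rwa [Set.range_const] at h
    haveI := IntermediateField.finiteDimensional_adjoin (K := IntermediateField.adjoin k ({t} : Set X.functionField))
      (L := X.functionField) (S := (S : Set X.functionField)) fun s _ => Algebra.IsIntegral.isIntegral s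
    have htop : IntermediateField.adjoin (IntermediateField.adjoin k ({t} : Set X.functionField)) (S : Set X.functionField) = ⊤ := by
      refine (IntermediateField.restrictScalars_eq_top_iff (K := k)).mp (top_le_iff.mp ?_)
      rw [← hS, IntermediateField.adjoin_le_iff]
      exact IntermediateField.subset_adjoin _ _
    rw [htop] at this
    exact Module.Finite.of_surjective (IntermediateField.topEquiv (F := IntermediateField.adjoin k ({t} : Set X.functionField))
      (E := X.functionField)).toLinearEquiv.toLinearMap (LinearEquiv.surjective _)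
  · obtain ⟨s, hs⟩ := mem_range_germ_of_stalks k hdim (O := ⊤) trivial y fun x _ hx => by
      haveI := isDVR_stalk k hdim hx
      obtain ⟨p, hp, hpy⟩ := hy.isIntegral
      refine IsIntegrallyClosed.isIntegral_iff.mp
        ⟨p.map (Curv2.stalkMap k X x), hp.map _, ?_⟩
      rw [Polynomial.eval₂_map, show (algebraMap (X.presheaf.stalk x) X.functionField).comp (Curv2.stalkMap k X x) =
        algebraMap k X.functionField from RingHom.ext fun c => (const_eq hc x c).symm]
      exact hpy
    haveI : GeometricallyConnected (X ↘ Spec (CommRingCat.of k)) :=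
      ⟨fun K _ y Z fst snd h =>
        haveI : IrreducibleSpace Z := GeometricallyIrreducible.geometrically_irreducibleSpace
          (f := X ↘ Spec (CommRingCat.of k)) _ _ _ h
        inferInstance⟩
    haveI := AbVarLib.geometricallyIntegral_of_smooth (X ↘ Spec (CommRingCat.of k))
    obtain ⟨b, hb⟩ := (AbSchLib.bijective_appTop_of_field k (X ↘ Spec (CommRingCat.of k))).2 s
    refine ⟨(Scheme.ΓSpecIso (CommRingCat.of k)).hom.hom b, ?_⟩
    rw [hc, ← hs, ← hb]
    show (X.presheaf.germ ⊤ _ trivial).hom ((X ↘ Spec (CommRingCat.of k)).appTop.hom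
      ((Scheme.ΓSpecIso (CommRingCat.of k)).inv.hom ((Scheme.ΓSpecIso (CommRingCat.of k)).hom.hom b))) = _
    rw [show (Scheme.ΓSpecIso (CommRingCat.of k)).inv.hom ((Scheme.ΓSpecIso (CommRingCat.of k)).hom.hom b) = b from
      ConcreteCategory.congr_hom (Scheme.ΓSpecIso (CommRingCat.of k)).hom_inv_id b]

variable (hK : FunFld.IsFunctionField k X.functionField)
include hK

theorem exists_place {x : X} (hx : IsClosed ({x} : Set X)) : ∃ P : FunFld.Place k X.functionField,
    (P.O : Set X.functionField) = Set.range (algebraMap (X.presheaf.stalk x) X.functionField) := by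
  obtain ⟨R, hR, hRx⟩ := exists_valSub k hdim hx
  obtain ⟨P, hP⟩ := FF.exists_place_of_valuationSubring hK R
    (fun c => (Set.ext_iff.mp hRx _).mpr ⟨_, (const_eq hc x c).symm⟩) hR
  exact ⟨P, by rw [hP]; exact hRx⟩

/-- The place of a closed point. -/
noncomputable def placeOf (x : {x : X // IsClosed ({x} : Set X)}) : FunFld.Place k X.functionField :=
  (exists_place hdim hc hK x.2).choose

theorem coe_O_placeOf (x : {x : X // IsClosed ({x} : Set X)}) :
    ((placeOf hdim hc hK x).O : Set X.functionField) = Set.range (algebraMap (X.presheaf.stalk x.1) X.functionField) :=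
  (exists_place hdim hc hK x.2).choose_spec

theorem mem_placeOf_iff (x : {x : X // IsClosed ({x} : Set X)}) (z : X.functionField) :
    (placeOf hdim hc hK x).1 z ≤ 1 ↔ z ∈ Set.range (algebraMap (X.presheaf.stalk x.1) X.functionField) := by
  rw [← FF.mem_O, ← coe_O_placeOf hdim hc hK x]; rfl

theorem placeOf_bijective : Function.Bijective (placeOf hdim hc hK) := by
  haveI : X.IsSeparated := Coherent.Serre.isSeparated_of_isProper (X ↘ Spec (CommRingCat.of k))
  refine ⟨fun x y h => Subtype.ext (CurveLib.eq_of_eq_range (placeOf hdim hc hK x).O x.1 y.1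
    (coe_O_placeOf hdim hc hK x) (by rw [h]; exact coe_O_placeOf hdim hc hK y)), fun Q => ?_⟩
  have hk : ∀ a, Curv2.stalkMap k X (genericPoint X) a ∈ Q.O := fun a => (FF.mem_O _).mpr (hc ▸ Q.2.1 a)
  let g : k →+* Q.O := (Curv2.stalkMap k X (genericPoint X)).codRestrict Q.O.toSubring hk
  have hsq : CommSq (X.fromSpecStalk (genericPoint X)) (Spec.map (CommRingCat.ofHom Q.O.subtype))
      (X ↘ Spec (CommRingCat.of k)) (Spec.map (CommRingCat.ofHom g)) := ⟨by
    rw [← Spec.map_comp]
    exact (CurveLib.specMap_stalkMap k X (genericPoint X)).symm⟩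
  obtain ⟨⟨l, hl, -⟩⟩ : hsq.HasLift := by
    have hv := (IsProper.eq_valuativeCriterion ▸
      (inferInstance : IsProper (X ↘ Spec (CommRingCat.of k)))).1.1.1
    exact ⟨@Nonempty.intro _ (hv ⟨CommRingCat.of Q.O, CommRingCat.of X.functionField, X.fromSpecStalk (genericPoint X),
      Spec.map (CommRingCat.ofHom g), hsq⟩).some.default⟩
  obtain ⟨h1, -⟩ := ValExtLib.exists_dominated_of_spec Q.O l hl
  have hne : l (closedPoint Q.O) ≠ genericPoint X := by
    intro he
    obtain ⟨z, hz⟩ := Q.2.2 (WithZero.exp (1 : ℤ))
    have := h1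
    rw [he] at this
    have hid : (X.presheaf.stalkSpecializes (genericPoint_specializes (genericPoint X))).hom z = z := by
      rw [TopCat.Presheaf.stalkSpecializes_refl]
      rfl
    have hzO := (FF.mem_O _).mp (this z)
    change Q.1 ((X.presheaf.stalkSpecializes (genericPoint_specializes (genericPoint X))).hom z) ≤ 1 at hzO
    rw [hid, hz, ← WithZero.exp_zero, WithZero.exp_le_exp] at hzO
    omega
  refine ⟨⟨_, (CurvesLib24.eq_genericPoint_or_isClosed hdim.le _).resolve_left hne⟩, FF.eq_of_le fun z hz => ?_⟩
  obtain ⟨a, rfl⟩ := (mem_placeOf_iff hdim hc hK _ z).1 hz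
  exact (FF.mem_O _).mp (h1 a)

theorem deg_placeOf (x : {x : X // IsClosed ({x} : Set X)}) :
    (placeOf hdim hc hK x).deg = EGA4loc.residueDegree (X ↘ Spec (CommRingCat.of k)) x.1 := by
  set P := placeOf hdim hc hK x
  let φ : X.presheaf.stalk x.1 →+* P.O :=
    (algebraMap (X.presheaf.stalk x.1) X.functionField).codRestrict P.O.toSubring fun a =>
      (Set.ext_iff.mp (coe_O_placeOf hdim hc hK x) _).mpr ⟨a, rfl⟩
  have hφ : Function.Bijective φ := ⟨fun a b h => IsFractionRing.injective (X.presheaf.stalk x.1) X.functionField
      (congrArg Subtype.val h), fun z => by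
    obtain ⟨a, ha⟩ := (Set.ext_iff.mp (coe_O_placeOf hdim hc hK x) _).mp z.2
    exact ⟨a, Subtype.ext ha⟩⟩
  let E := IsLocalRing.ResidueField.mapEquiv (RingEquiv.ofBijective φ hφ)
  letI := (DimLib.baseRingHom (X ↘ Spec (CommRingCat.of k)) x.1).toAlgebra
  have hbase := baseRingHom_eq (k := k) x.1
  have e : X.residueField x.1 ≃ₗ[k] ResidueField P.O :=
    { E.toAddEquiv with
      map_smul' := fun c z => by
        rw [RingHom.id_apply, Algebra.smul_def]
        refine (map_mul E (algebraMap k (X.residueField x.1) c) z).trans ?_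
        show _ = c • E z
        rw [Algebra.smul_def]
        congr 1
        show E (DimLib.baseRingHom (X ↘ Spec (CommRingCat.of k)) x.1 c) = _
        rw [hbase]
        refine (IsLocalRing.ResidueField.map_residue _ _).trans ?_
        exact congrArg (IsLocalRing.residue P.O) (Subtype.ext (const_eq hc x.1 c).symm) }
  rw [WeilLib.residueDegree_eq_rdeg]
  exact e.finrank_eq.symm

end Groth.Agent.Zeta24
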